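import Groth.Agent.EtModWLib.LocConstP.Loci
import Groth.Agent.ProEtLib.EpsColim
import Groth.Agent.ProEtLib.Cover
import Groth.Agent.WStrictLib.WEtaleCover
import Groth.Agent.EtModWLib.EpsMod

/-!
# Finite trivializing families of pro-étale affine objects over an affine étale object
-/

set_option autoImplicit false

universe u

open CategoryTheory CategoryTheory.Limits AlgebraicGeometry Opposite MorphismProperty

namespace Groth.Agent.EtModWLib.LocConstP

set_option backward.isDefEq.respectTransparency.types false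

open ProEtLib ProStage

variable {X : Scheme.{u}}

/-- affine objects weakly étale over an affine étale object have surjective covers which are limits of affine
étale schemes -/
theorem exists_isPro_cover {U₀ : X.Etale} [IsAffine U₀.left] {V : X.ProEt} [IsAffine V.left]
    (v : V ⟶ (ProEtS.eps X).obj U₀) :
    ∃ (W : X.ProEt) (g : W ⟶ V), IsAffine W.left ∧ Function.Surjective g.left.base ∧ IsPro (ovS (g ≫ v)) := by
  haveI : IsAffine ((ProEtS.eps X).obj U₀).left := ‹IsAffine U₀.left›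
  haveI : WeaklyEtale v.left := weaklyEtale_left v
  let f : V.left ⟶ U₀.left := v.left
  letI : Algebra Γ(U₀.left, ⊤) Γ(V.left, ⊤) := f.appTop.hom.toAlgebra
  have hsq : Spec.map f.appTop = V.left.isoSpec.inv ≫ f ≫ U₀.left.isoSpec.hom := by
    rw [← Scheme.isoSpec_hom_naturality f, Iso.inv_hom_id_assoc]
  haveI : WeaklyEtale f := ‹WeaklyEtale v.left›
  have hw : WeaklyEtale (Spec.map f.appTop) := by rw [hsq]; infer_instance
  haveI : Algebra.WeaklyEtale Γ(U₀.left, ⊤) Γ(V.left, ⊤) := (weaklyEtale_spec_iff _).1 hw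
  obtain ⟨R, _, _, _, _, hff, hie, hie'⟩ :=
    WStrictLib.exists_indEtale_cover (A := Γ(U₀.left, ⊤)) (B := Γ(V.left, ⊤))
  haveI : Algebra.WeaklyEtale Γ(V.left, ⊤) R := S0736.result _ _ hie
  haveI := weaklyEtale_spec Γ(V.left, ⊤) R
  haveI : WeaklyEtale V.hom := V.prop
  let p : Spec (CommRingCat.of R) ⟶ V.left :=
    Spec.map (CommRingCat.ofHom (algebraMap Γ(V.left, ⊤) R)) ≫ V.left.isoSpec.inv
  let W : X.ProEt := Scheme.ProEt.mk (p ≫ V.hom)
  let g : W ⟶ V := MorphismProperty.Over.homMk p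
  haveI hW : IsAffine W.left := inferInstanceAs (IsAffine (Spec (CommRingCat.of R)))
  refine ⟨W, g, hW, ?_, ?_⟩
  · haveI : Surjective (Spec.map (CommRingCat.ofHom (algebraMap Γ(V.left, ⊤) R))) :=
      ⟨PrimeSpectrum.comap_surjective_of_faithfullyFlat⟩
    exact (inferInstance : Surjective p).surj
  · haveI : IsAffine (ovS (g ≫ v)).left := hW
    refine isPro_of_isIndEtale ?_
    change @EtPBC.IsIndEtale Γ(U₀.left, ⊤) Γ(W.left, ⊤) _ _ (ovS (g ≫ v)).hom.appTop.hom.toAlgebra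
    letI : Algebra Γ(U₀.left, ⊤) Γ(W.left, ⊤) := (ovS (g ≫ v)).hom.appTop.hom.toAlgebra
    let e : Γ(W.left, ⊤) ≃+* R := (Scheme.ΓSpecIso (CommRingCat.of R)).commRingCatIsoToRingEquiv
    have hp : ∀ r, e (p.appTop r) = algebraMap Γ(V.left, ⊤) R r := fun r => by
      have h2 : p.appTop ≫ (Scheme.ΓSpecIso (CommRingCat.of R)).hom =
          CommRingCat.ofHom (algebraMap Γ(V.left, ⊤) R) := by
        rw [Scheme.Hom.comp_appTop, Category.assoc, Scheme.ΓSpecIso_naturality]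
        have h3 := congrArg (fun f : V.left ⟶ V.left => f.appTop) V.left.isoSpec.hom_inv_id
        simp only [Scheme.Hom.comp_appTop, Scheme.isoSpec_hom, Scheme.toSpecΓ_appTop] at h3
        exact (Category.assoc _ _ _).symm.trans ((congrArg (· ≫ _) h3).trans (Category.id_comp _))
      exact ConcreteCategory.congr_hom h2 r
    have he : ∀ r, e (algebraMap Γ(U₀.left, ⊤) Γ(W.left, ⊤) r) = algebraMap Γ(U₀.left, ⊤) R r := fun r => by
      rw [IsScalarTower.algebraMap_apply Γ(U₀.left, ⊤) Γ(V.left, ⊤) R]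
      refine Eq.trans ?_ (hp (f.appTop r))
      exact congrArg e (ConcreteCategory.congr_hom (Scheme.Hom.comp_appTop p f) r)
    let e' : Γ(W.left, ⊤) ≃ₐ[Γ(U₀.left, ⊤)] R := AlgEquiv.ofRingEquiv (f := e) he
    refine IndEtLib.isIndEtale_of_factor fun Q _ _ _ φ => ?_
    obtain ⟨Y, hY, ⟨eY⟩⟩ := IndEtLib.exists_sys hie'
    obtain ⟨j, ψ, hψ⟩ := Y.exists_lift Q (eY.symm.toAlgHom.comp (e'.toAlgHom.comp φ))
    refine ⟨Y.A j, inferInstance, inferInstance, hY j, ψ, e'.symm.toAlgHom.comp (eY.toAlgHom.comp (Y.ι j)),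
      AlgHom.ext fun q => ?_⟩
    simp only [AlgHom.comp_apply, AlgEquiv.toAlgHom_apply]
    rw [show Y.ι j (ψ q) = eY.symm (e' (φ q)) from AlgHom.congr_fun hψ q]
    simp

variable {Λ : Type (u + 1)} [CommRing Λ]

/-- A finite family trivializing a locally constant sheaf near a point. -/
theorem exists_family {GM : EtModW.ModP Λ X} (hG : EtModW.IsFPLocConstP Λ GM) (x : X) :
    ∃ (U₀ : X.Etale) (_ : IsAffine U₀.left) (p₀ : U₀.left) (κ : Type u) (_ : Finite κ) (W : κ → X.ProEt)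
      (h : ∀ b, W b ⟶ (ProEtS.eps X).obj U₀), U₀.hom.base p₀ = x ∧ (∀ b, IsAffine (W b).left) ∧
      (∀ b, IsPro (ovS (h b))) ∧ (∀ e, ∃ b, e ∈ Set.range (h b).left.base) ∧
      ∀ b, ∃ (M : ModuleCat.{u + 1} Λ) (_ : Module.FinitePresentation Λ M) (φ : M ⟶ GM.obj.obj (op (W b))),
        IsConstOnM GM φ := by
  obtain ⟨ι, U, hU, hM⟩ := hG
  obtain ⟨A, hA, hxA, -⟩ := exists_isAffineOpen_mem_and_subset (U := (⊤ : X.Opens)) (x := x) trivial
  let U₀ : X.Etale := Scheme.Etale.mk A.ι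
  haveI hA₀ : IsAffine U₀.left := hA
  haveI : IsAffine ((ProEtS.eps X).obj U₀).left := hA
  let t : (ProEtS.eps X).obj U₀ ⟶ ProEtS.topP X :=
    MorphismProperty.Over.homMk ((ProEtS.eps X).obj U₀).hom
  obtain ⟨κ, _, P, p, hp, hcpt, hsurj, -⟩ :=
    exists_finite_compact_cover ((Scheme.ProEt.topology X).pullback_stable t hU)
  haveI := hcpt
  choose V v hv hVa hVwc using fun k => exists_affine_wc_cover (P k)
  choose W g hW hgs hpro using fun k =>
    haveI := hVa k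
    exists_isPro_cover (v k ≫ p k)
  refine ⟨U₀, hA₀, ⟨x, hxA⟩, κ, inferInstance, W, fun k => g k ≫ v k ≫ p k, rfl, hW, hpro,
    fun e => ?_, fun k => ?_⟩
  · obtain ⟨k, z, hz⟩ := hsurj e
    obtain ⟨_, _, y, ⟨_, a, _, ⟨⟩, ha⟩, hy⟩ := exists_hit (hv k) z
    obtain ⟨w, hw⟩ := hgs k (a.left.base y)
    refine ⟨k, w, ?_⟩
    change (p k).left.base ((v k).left.base ((g k).left.base w)) = e
    rw [hw, ← hz, ← hy, ← ha]
    rfl
  · obtain ⟨Y, a, _, ⟨i⟩, -⟩ := hp k
    obtain ⟨M, _, _, hfp, ⟨e⟩⟩ := hM i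
    obtain ⟨φ, hφ⟩ := exists_isConstOnM e
    exact ⟨ModuleCat.of Λ M, hfp, φ ≫ GM.obj.map ((g k ≫ v k) ≫ a).op, hφ.restrict ((g k ≫ v k) ≫ a)⟩

end Groth.Agent.EtModWLib.LocConstP
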