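import Groth.Agent.EtModWLib.LocConstP.Descent
import Groth.Agent.EtModWLib.LocConstP.Family
import Mathlib.Algebra.Module.FinitePresentation
import Mathlib.LinearAlgebra.Finsupp.Pi

/-!
# Constancy over a pro-étale covering spreads out to étale neighbourhoods
-/

set_option autoImplicit false

universe u

open CategoryTheory CategoryTheory.Limits AlgebraicGeometry Opposite MorphismProperty

namespace Groth.Agent.EtModWLib.LocConstP

set_option backward.isDefEq.respectTransparency.types false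

open ProEtLib ProStage

variable {X : Scheme.{u}} {Λ : Type (u + 1)} [CommRing Λ] {GM : EtModW.ModP Λ X}

theorem map_mapM (GM : EtModW.ModP Λ X) {A B D : X.ProEt} (g : B ⟶ A) (f : D ⟶ B) (s : GM.obj.obj (op A)) :
    GM.obj.map f.op (GM.obj.map g.op s) = GM.obj.map (f ≫ g).op s := map_map (ab GM) g f s

theorem map_smulM (GM : EtModW.ModP Λ X) {A B : X.ProEt} (g : B ⟶ A) (r : Λ) (s : GM.obj.obj (op A)) :
    GM.obj.map g.op (r • s) = r • GM.obj.map g.op s := map_smul (GM.obj.map g.op).hom r s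

/-- sections of a locally constant sheaf have locally constant values -/
theorem locus_smul {V : X.ProEt} {M : ModuleCat.{u + 1} Λ} {φ : M ⟶ GM.obj.obj (op V)} {T : X.ProEt}
    {g : T ⟶ V} {s : GM.obj.obj (op T)} {m : M} {t : T.left} (r : Λ)
    (h : t ∈ locus (G := ab GM) φ.hom.toAddMonoidHom g s m) :
    t ∈ locus (G := ab GM) φ.hom.toAddMonoidHom g (r • s) (r • m) := by
  refine mem_locus_of (O := locus (G := ab GM) φ.hom.toAddMonoidHom g s m) h ?_
  let O := locus (G := ab GM) φ.hom.toAddMonoidHom g s m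
  have e : GM.obj.map (opHom T O).op s = GM.obj.map (opHom T O ≫ g).op (φ.hom m) :=
    eq_of_forall_mem_locus (G := ab GM) (φ := φ.hom.toAddMonoidHom) (g := g) (s := s) (m := m) _ fun w : O => w.2
  change GM.obj.map (opHom T O).op (r • s) = GM.obj.map (opHom T O ≫ g).op (φ.hom (r • m))
  rw [map_smul φ.hom, map_smulM, map_smulM, e]

/-- The values near a point of a linear family of sections. -/
theorem exists_valLin {V : X.ProEt} {M : ModuleCat.{u + 1} Λ} {φ : M ⟶ GM.obj.obj (op V)} (hφ : IsConstOnM GM φ)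
    {T : X.ProEt} (g : T ⟶ V) {N : ModuleCat.{u + 1} Λ} (ψ : N ⟶ GM.obj.obj (op T)) (t : T.left) :
    ∃ l : N →ₗ[Λ] M, ∀ n, t ∈ locus (G := ab GM) φ.hom.toAddMonoidHom g (ψ n) (l n) := by
  choose l hl using fun n => IsConstOn.exists_mem_locus hφ g (ψ n) t
  exact ⟨{ toFun := l
           map_add' := fun a b => IsConstOn.locus_unique hφ (hl (a + b)) (by
             rw [map_add ψ.hom]
             exact locus_add (hl a) (hl b))
           map_smul' := fun r a => IsConstOn.locus_unique hφ (hl (r • a)) (by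
             rw [map_smul ψ.hom]
             exact locus_smul r (hl a)) }, hl⟩

section Stage

variable {U₀ : X.Etale} [IsAffine U₀.left] {W : X.ProEt} {w : W ⟶ (ProEtS.eps X).obj U₀}

/-- the stages of a pro-affine-étale object -/
noncomputable abbrev stageD (w : W ⟶ (ProEtS.eps X).obj U₀) :
    StructuredArrow (ovS w) (toOv U₀.left) ⥤ X.ProEt :=
  StructuredArrow.proj (ovS w) (toOv U₀.left) ⋙ toX U₀ ⋙ ProEtS.eps X

/-- its cone -/
noncomputable abbrev stageC (w : W ⟶ (ProEtS.eps X).obj U₀) : Cone (stageD w) where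
  pt := W
  π :=
    { app := sMap
      naturality := fun a b g => (Category.id_comp _).trans (sMap_map g).symm }

theorem isAffLimit_stage (h : IsPro (ovS w)) : IsAffLimit (stageC w) where
  aff a := inferInstanceAs (IsAffine ((toOv U₀.left).obj a.right).left)
  lim := ⟨IsLimit.ofIsoLimit ((IsLimit.postcomposeHomEquiv (NatIso.ofComponents (fun a => Iso.refl _)
    (fun f => (Category.comp_id _).trans (Category.id_comp _).symm)) _).symm h.isLimit.some)
    (Cone.ext (Iso.refl _) fun a => (Category.comp_id _).trans (Category.id_comp _).symm)⟩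

end Stage

/-- constancy over an étale neighbourhood of each point -/
theorem exists_etale_chart (hG : EtModW.IsFPLocConstP Λ GM) (x : X) :
    ∃ (U : X.Etale) (p : U.left), U.hom.base p = x ∧ ∃ (M : ModuleCat.{u + 1} Λ)
      (_ : Module.FinitePresentation Λ M) (ψ : M ⟶ GM.obj.obj (op ((ProEtS.eps X).obj U))), IsConstOnM GM ψ := by
  classical
  obtain ⟨U₀, _, p₀, κ, _, W, h, hp₀, hW, hpro, hsurj, hch⟩ := exists_family hG x
  choose M hM φ hφ using hch
  have hG' : ∀ b, ∃ (N : Type (u + 1)) (_ : AddCommGroup N) (f : N →+ (ab GM).obj.obj (op (W b))),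
      IsConstOn (ab GM) f := fun b => ⟨M b, inferInstance, _, hφ b⟩
  obtain ⟨a, w₀, hw₀⟩ := hsurj p₀
  haveI : IsAffine ((ProEtS.eps X).obj U₀).left := ‹IsAffine U₀.left›
  let D := stageD (h a)
  let t₀ : ∀ k, D.obj k ⟶ (ProEtS.eps X).obj U₀ := fun k => (ProEtS.eps X).map (toXBase U₀ k.right)
  have hc : IsAffLimit (stageC (h a)) := isAffLimit_stage (hpro a)
  obtain ⟨n, R, eR, hR⟩ := Module.FinitePresentation.exists_fin Λ (M a)
  let π : (Fin n → Λ) →ₗ[Λ] M a := eR.symm.toLinearMap ∘ₗ R.mkQ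
  obtain ⟨j⟩ := IsCofiltered.nonempty (C := StructuredArrow (ovS (h a)) (toOv U₀.left))
  choose k fk s hs using fun i : Fin n => exists_map_eq_of_cover hc hW h hsurj hG' (t₀ j)
    (φ a (π (Pi.single i 1)))
  obtain ⟨k₁, hk₁⟩ := IsCofiltered.inf_objs_exists (insert j (Finset.univ.image k))
  let f₁ : ∀ i, k₁ ⟶ k i := fun i =>
    (hk₁ (Finset.mem_insert_of_mem (Finset.mem_image_of_mem k (Finset.mem_univ i)))).some
  let L : (Fin n → Λ) →ₗ[Λ] GM.obj.obj (op (D.obj k₁)) :=
    Fintype.linearCombination Λ (fun i => GM.obj.map (D.map (f₁ i)).op (s i))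
  have hL : ∀ v, GM.obj.map ((stageC (h a)).π.app k₁).op (L v) = φ a (π v) := fun v => by
    have e : (GM.obj.map ((stageC (h a)).π.app k₁).op).hom ∘ₗ L = (φ a).hom ∘ₗ π := by
      refine LinearMap.pi_ext' fun i => LinearMap.ext_ring ?_
      change GM.obj.map _ (L (Pi.single i 1)) = φ a (π (Pi.single i 1))
      rw [Fintype.linearCombination_apply_single, one_smul, map_mapM, (stageC (h a)).w]
      exact hs i
    exact LinearMap.congr_fun e v
  obtain ⟨F, hF⟩ := hR
  choose k' f' hf' using fun r : F => exists_map_eq_zero_of_cover hc hW h hsurj hG' (t₀ k₁) (L r.1) (by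
    refine (hL r.1).trans ?_
    have : R.mkQ (r.1 : Fin n → Λ) = 0 :=
      (Submodule.Quotient.mk_eq_zero R).2 (hF.le (Submodule.subset_span r.2))
    change φ a (eR.symm (R.mkQ r.1)) = 0
    rw [this, map_zero, map_zero])
  let Q : F → Over k₁ := fun r => Over.mk (f' r)
  obtain ⟨k₂, hk₂⟩ := IsCofiltered.inf_objs_exists (insert (Over.mk (𝟙 k₁)) (Finset.univ.image Q))
  let L' : (Fin n → Λ) →ₗ[Λ] GM.obj.obj (op (D.obj k₂.left)) := (GM.obj.map (D.map k₂.hom).op).hom ∘ₗ L
  have hker : R ≤ LinearMap.ker L' := by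
    rw [← hF, Submodule.span_le]
    intro r hr
    obtain ⟨g⟩ := hk₂ (Finset.mem_insert_of_mem (Finset.mem_image_of_mem Q (Finset.mem_univ ⟨r, hr⟩)))
    change GM.obj.map (D.map k₂.hom).op (L r) = 0
    rw [← Over.w g, D.map_comp, ← map_mapM]
    exact (congrArg (fun q => GM.obj.map (D.map g.left).op q) (hf' ⟨r, hr⟩)).trans (map_zero _)
  let U : X.Etale := (toX U₀).obj k₂.left.right
  let T : X.ProEt := D.obj k₂.left
  let ψ : M a ⟶ GM.obj.obj (op T) := ModuleCat.ofHom (R.liftQ L' hker ∘ₗ eR.toLinearMap)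
  let π₂ : W a ⟶ T := (stageC (h a)).π.app k₂.left
  have hψ : ∀ m, GM.obj.map π₂.op (ψ m) = φ a m := fun m => by
    obtain ⟨v, hv⟩ := R.mkQ_surjective (eR m)
    have hm : π v = m := eR.symm_apply_eq.2 hv
    change GM.obj.map π₂.op (R.liftQ L' hker (eR m)) = φ a m
    rw [← hv, ← hm]
    change GM.obj.map π₂.op (GM.obj.map (D.map k₂.hom).op (L v)) = _
    rw [map_mapM, (stageC (h a)).w]
    exact hL v
  haveI : IsAffine T.left := hc.aff k₂.left
  let q := t₀ k₂.left
  let V : κ → X.ProEt := fun b => pb q (h b)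
  let ψb : ∀ b, M a ⟶ GM.obj.obj (op (V b)) := fun b => ψ ≫ GM.obj.map (pbFst q (h b)).op
  let L₀ := fun b => locus (G := ab GM) (φ b).hom.toAddMonoidHom (pbSnd q (h b))
  choose l hl using fun b (v : (V b).left) => exists_valLin (hφ b) (pbSnd q (h b)) (ψb b) v
  -- the bad locus
  let Bad : ∀ b, Set (V b).left := fun b => {v | ¬ Function.Bijective (l b v)}
  have hBad : ∀ b, IsClosed (Bad b) := fun b => by
    rw [← isOpen_compl_iff, isOpen_iff_forall_mem_open]
    intro v hv
    refine ⟨⋂ i : Fin n, ↑(L₀ b (ψb b (π (Pi.single i 1))) (l b v (π (Pi.single i 1)))), fun v' hv' => ?_,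
      isOpen_iInter_of_finite fun i => (L₀ b _ _).2, Set.mem_iInter.2 fun i => hl b v _⟩
    have e : l b v' ∘ₗ π = l b v ∘ₗ π := LinearMap.pi_ext' fun i => LinearMap.ext_ring
      (IsConstOn.locus_unique (hφ b) (hl b v' _) (Set.mem_iInter.1 hv' i))
    have e' : l b v' = l b v :=
      (LinearMap.cancel_right (show Function.Surjective π from eR.symm.surjective.comp R.mkQ_surjective)).1 e
    exact fun h' => hv (by change ¬ Function.Bijective (l b v); rw [← e']; exact h')
  let u₂ : T.left := π₂.left.base w₀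
  have havoid : ∀ b, u₂ ∉ closure ((pbFst q (h b)).left.base '' Bad b) := fun b => by
    haveI := hW b
    haveI : IsAffine (V b).left := isAffine_pb q (h b)
    refine notMem_closure_image (pbFst q (h b)).left (Bad b) (hBad b) u₂ fun z hz hsp => hz ?_
    haveI : WeaklyEtale π₂.left := weaklyEtale_left π₂
    obtain ⟨w', -, hw'⟩ := (Flat.generalizingMap π₂.left) (a := w₀) (b := (pbFst q (h b)).left.base z) hsp
    obtain ⟨P, r, r', y, hr, hy, hy'⟩ := EpsLim13.exists_point π₂ (pbFst q (h b)) w' z hw'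
    have hP : ∀ m, GM.obj.map r'.op (ψb b m) = GM.obj.map r.op (φ a m) := fun m => by
      change GM.obj.map r'.op (GM.obj.map (pbFst q (h b)).op (ψ m)) = _
      rw [map_mapM, ← hr, ← map_mapM, hψ]
    have hval : ∀ m, y ∈ locus (G := ab GM) (φ b).hom.toAddMonoidHom (r' ≫ pbSnd q (h b))
        (GM.obj.map r.op (φ a m)) (l b z m) := fun m => by
      rw [← hP m]
      exact locus_map (G := ab GM) r' (hy'.symm ▸ hl b z m)
    refine ⟨(injective_iff_map_eq_zero _).2 fun m hm => ?_, fun nn => ?_⟩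
    · obtain ⟨O, hyO, e⟩ := mem_locus_iff.1 (hval m)
      rw [hm, map_zero, map_zero] at e
      exact ((hφ a).inj (opHom P O ≫ r) m ((map_mapM GM r (opHom P O) (φ a m)).symm.trans e)).resolve_right (not_bot_mem (T := opObj P O) ⟨y, hyO⟩)
    · obtain ⟨m, hm⟩ := IsConstOn.exists_mem_locus (hφ a) r
        (GM.obj.map (r' ≫ pbSnd q (h b)).op (φ b nn)) y
      refine ⟨m, IsConstOn.locus_unique (hφ b) (hval m) ?_⟩
      obtain ⟨O, hyO, e⟩ := mem_locus_iff.1 hm
      refine mem_locus_of (O := O) hyO ?_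
      change GM.obj.map (opHom P O).op (GM.obj.map r.op (φ a m)) = _
      rw [map_mapM]
      exact e.symm.trans (map_mapM GM _ _ _)
  let B : Set T.left := ⋃ b, closure ((pbFst q (h b)).left.base '' Bad b)
  have hB : IsClosed B := isClosed_iUnion_of_finite fun b => isClosed_closure
  let O : T.left.Opens := ⟨Bᶜ, hB.isOpen_compl⟩
  have hu₂ : u₂ ∈ O := fun hmem => by
    obtain ⟨b, hb⟩ := Set.mem_iUnion.1 hmem
    exact havoid b hb
  haveI : Etale U.hom := U.prop
  let O' : U.left.Opens := O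
  let U' : X.Etale := Scheme.Etale.mk (O'.ι ≫ U.hom)
  let i' : U' ⟶ U := MorphismProperty.Over.homMk O'.ι
  let iT : (ProEtS.eps X).obj U' ⟶ T := (ProEtS.eps X).map i'
  refine ⟨U', ⟨u₂, hu₂⟩, ?_, M a, hM a, ψ ≫ GM.obj.map iT.op, ?_⟩
  · change U.hom.base u₂ = x
    have e1 := congrArg (fun f : (W a).left ⟶ X => f.base w₀) (MorphismProperty.Over.w π₂)
    refine Eq.trans e1 ?_
    rw [← hp₀, ← hw₀]
    exact (congrArg (fun f : (W a).left ⟶ X => f.base w₀) (MorphismProperty.Over.w (h a))).symm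
  -- constancy
  have hgood : ∀ (b) (v : (V b).left), (pbFst q (h b)).left.base v ∈ O → Function.Bijective (l b v) := by
    intro b v hv
    by_contra hb
    exact hv (Set.mem_iUnion.2 ⟨b, subset_closure ⟨v, hb, rfl⟩⟩)
  have hV : ∀ t : T.left, ∃ b v, (pbFst q (h b)).left.base v = t := fun t => by
    obtain ⟨b, v, hv⟩ := pb_jointly_surjective q h hsurj t
    exact ⟨b, v, hv⟩
  constructor
  · intro T₁ g₁ s₁
    let g := g₁ ≫ iT
    have hcov := (Scheme.ProEt.topology X).pullback_stable g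
      (mem_topology_of_finite V (fun b => pbFst q (h b)) (fun b => by haveI := hW b; exact isAffine_pb _ _) hV)
    refine ⟨{ arrows := fun T' f => ∃ m : M a, GM.obj.map f.op s₁ = GM.obj.map ((f ≫ g₁) ≫ iT).op (ψ m)
              downward_closed := fun {A B f} ⟨m, hm⟩ e => ⟨m, by
                rw [← map_mapM GM f e, hm, map_mapM]
                simp only [Category.assoc]⟩ }, ?_, fun T' f ⟨m, hm⟩ => ⟨m, hm.trans (by
                  exact (map_mapM GM iT (f ≫ g₁) (ψ m)).symm)⟩⟩
    refine (Scheme.ProEt.topology X).transitive hcov _ ?_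
    rintro T' f ⟨_, c, _, ⟨b⟩, hf⟩
    choose mm hmm using fun z : T'.left => IsConstOn.exists_mem_locus (hφ b) (c ≫ pbSnd q (h b))
      (GM.obj.map f.op s₁) z
    have hbij : ∀ z : T'.left, Function.Bijective (l b (c.left.base z)) := fun z => by
      refine hgood b _ ?_
      have := congrArg (fun e : T' ⟶ T => e.left.base z) hf
      exact Set.mem_of_eq_of_mem this ((g₁.left.base (f.left.base z)).2)
    choose m hm using fun z => (hbij z).2 (mm z)
    let Oz : T'.left → T'.left.Opens := fun z =>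
      locus (G := ab GM) (φ b).hom.toAddMonoidHom (c ≫ pbSnd q (h b)) (GM.obj.map f.op s₁) (mm z) ⊓
      locus (G := ab GM) (φ b).hom.toAddMonoidHom (c ≫ pbSnd q (h b)) (GM.obj.map c.op (ψb b (m z))) (mm z)
    refine (Scheme.ProEt.topology X).superset_covering ?_ (opens_mem_topology T' Oz fun z => ⟨z, hmm z, by
      rw [← hm z]
      exact locus_map (G := ab GM) c (hl b _ (m z))⟩)
    rintro T'' _ ⟨_, e, _, ⟨z⟩, rfl⟩
    refine ⟨m z, ?_⟩
    have h1 := eq_of_forall_mem_locus (G := ab GM) (φ := (φ b).hom.toAddMonoidHom) (g := c ≫ pbSnd q (h b))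
      (s := GM.obj.map f.op s₁) (m := mm z) (e ≫ opHom T' (Oz z)) fun y => (e.left.base y).2.1
    have h2 := eq_of_forall_mem_locus (G := ab GM) (φ := (φ b).hom.toAddMonoidHom) (g := c ≫ pbSnd q (h b))
      (s := GM.obj.map c.op (ψb b (m z))) (m := mm z) (e ≫ opHom T' (Oz z)) fun y => (e.left.base y).2.2
    refine ((map_mapM GM f _ s₁).symm.trans (h1.trans (h2.symm.trans ?_)))
    change GM.obj.map _ (GM.obj.map c.op (GM.obj.map (pbFst q (h b)).op (ψ (m z)))) = _
    rw [map_mapM, map_mapM]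
    refine congrArg (fun e' => GM.obj.map (Quiver.Hom.op e') (ψ (m z))) ?_
    simp only [Category.assoc, hf, g]
  · intro T₁ g₁ m hm
    by_cases h0 : m = 0
    · exact Or.inl h0
    refine Or.inr ?_
    haveI : IsEmpty T₁.left := ⟨fun t => by
      obtain ⟨b, v, hv⟩ := hV ((g₁ ≫ iT).left.base t)
      obtain ⟨P, r, r', y, hr, hy, hy'⟩ := EpsLim13.exists_point (g₁ ≫ iT) (pbFst q (h b)) t v hv.symm
      refine h0 ((hgood b v (Set.mem_of_eq_of_mem hv (g₁.left.base t).2)).1 ?_)
      rw [map_zero]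
      have hv' := locus_map (G := ab GM) (z := y) r' (show r'.left.base y ∈ locus (G := ab GM)
        (φ b).hom.toAddMonoidHom (pbSnd q (h b)) (ψb b m) (l b v m) by rw [hy']; exact hl b v m)
      have hz : GM.obj.map r'.op (ψb b m) = 0 := by
        change GM.obj.map r'.op (GM.obj.map (pbFst q (h b)).op (ψ m)) = 0
        rw [map_mapM, ← hr, ← map_mapM, ← map_mapM]
        exact (congrArg (fun e => GM.obj.map r.op e) hm).trans (map_zero _)
      rw [show (ab GM).obj.map r'.op (ψb b m) = 0 from hz] at hv'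
      exact IsConstOn.eq_zero_of_mem (hφ b) hv'⟩
    exact bot_mem

end Groth.Agent.EtModWLib.LocConstP
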