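import Groth.Agent.EtModWLib.LocConstP.Limit

/-!
# Continuity descends along finite covers by affine objects
-/

set_option autoImplicit false

universe u

open CategoryTheory CategoryTheory.Limits AlgebraicGeometry Opposite

namespace Groth.Agent.EtModWLib.LocConstP

set_option backward.isDefEq.respectTransparency.types false

open ProEtLib

variable {X : Scheme.{u}}

/-- finite jointly surjective families of affine objects cover affine objects -/
theorem mem_topology_of_finite {U : X.ProEt} [IsAffine U.left] {ι : Type u} [Finite ι] (P : ι → X.ProEt)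
    (p : ∀ k, P k ⟶ U) (hP : ∀ k, IsAffine (P k).left) (hsurj : ∀ x, ∃ k, x ∈ Set.range (p k).left.base) :
    Sieve.generate (Presieve.ofArrows P p) ∈ Scheme.ProEt.topology X U := by
  rw [mem_topology_iff]
  refine ⟨_, ?_, Sieve.le_generate _⟩
  rw [ofArrows_mem_precoverage_iff, mem_proetalePrecoverage_iff]
  refine ⟨⟨fun {U'} hU' => IsCompactOpenCovered.of_finite_of_isSpectralMap
    (fun k => ?_) (fun x _ => hsurj x) U'.2 hU'.isCompact⟩, hsurj, fun k => weaklyEtale_left (p k)⟩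
  haveI := hP k
  exact (p k).left.isSpectralMap

section Pb

variable {E A B : X.ProEt} (g : A ⟶ E) (h : B ⟶ E)

instance weaklyEtale_pb : WeaklyEtale (pullback.fst g.left h.left ≫ A.hom) := by
  haveI : WeaklyEtale h.left := weaklyEtale_left h
  haveI : WeaklyEtale (pullback.fst g.left h.left) :=
    MorphismProperty.pullback_fst (P := @WeaklyEtale) g.left h.left ‹_›
  haveI : WeaklyEtale A.hom := A.prop
  infer_instance

/-- fibre product in the small pro-étale site -/
noncomputable abbrev pb : X.ProEt := Scheme.ProEt.mk (pullback.fst g.left h.left ≫ A.hom)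

/-- first projection -/
noncomputable def pbFst : pb g h ⟶ A := MorphismProperty.Over.homMk (pullback.fst g.left h.left)

/-- second projection -/
noncomputable def pbSnd : pb g h ⟶ B := MorphismProperty.Over.homMk (pullback.snd g.left h.left) (by
  change _ = pullback.fst _ _ ≫ A.hom
  rw [← MorphismProperty.Over.w g, ← MorphismProperty.Over.w h, pullback.condition_assoc]
  rfl)

theorem pb_condition : pbFst g h ≫ g = pbSnd g h ≫ h := MorphismProperty.Over.Hom.ext pullback.condition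

/-- the universal map -/
noncomputable def pbLift {Z : X.ProEt} (a : Z ⟶ A) (b : Z ⟶ B) (e : a ≫ g = b ≫ h) : Z ⟶ pb g h :=
  MorphismProperty.Over.homMk (pullback.lift a.left b.left (congrArg (fun q => q.left) e)) (by
    change pullback.lift _ _ _ ≫ pullback.fst _ _ ≫ A.hom = _
    rw [pullback.lift_fst_assoc]
    exact MorphismProperty.Over.w a)

@[reassoc (attr := simp)] theorem pbLift_fst {Z : X.ProEt} (a : Z ⟶ A) (b : Z ⟶ B) (e : a ≫ g = b ≫ h) :
    pbLift g h a b e ≫ pbFst g h = a := MorphismProperty.Over.Hom.ext (pullback.lift_fst _ _ _)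

@[reassoc (attr := simp)] theorem pbLift_snd {Z : X.ProEt} (a : Z ⟶ A) (b : Z ⟶ B) (e : a ≫ g = b ≫ h) :
    pbLift g h a b e ≫ pbSnd g h = b := MorphismProperty.Over.Hom.ext (pullback.lift_snd _ _ _)

theorem pb_hom_ext {Z : X.ProEt} {a b : Z ⟶ pb g h} (h₁ : a ≫ pbFst g h = b ≫ pbFst g h)
    (h₂ : a ≫ pbSnd g h = b ≫ pbSnd g h) : a = b :=
  MorphismProperty.Over.Hom.ext (pullback.hom_ext (congrArg (fun q => q.left) h₁) (congrArg (fun q => q.left) h₂))

theorem isAffine_pb [IsAffine E.left] [IsAffine A.left] [IsAffine B.left] : IsAffine (pb g h).left :=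
  inferInstanceAs (IsAffine (pullback g.left h.left))

theorem pb_jointly_surjective {ι : Type*} {B : ι → X.ProEt} (h : ∀ b, B b ⟶ E)
    (hs : ∀ e, ∃ b, e ∈ Set.range (h b).left.base) (a : A.left) : ∃ b, a ∈ Set.range (pbFst g (h b)).left.base := by
  obtain ⟨b, y, hy⟩ := hs (g.left.base a)
  obtain ⟨z, hz, -⟩ := Scheme.Pullback.exists_preimage_pullback (f := g.left) (g := (h b).left) a y hy.symm
  exact ⟨b, z, hz⟩

end Pb

section System

variable {I : Type u} [SmallCategory I] [IsCofiltered I] (D : I ⥤ X.ProEt) (c : Cone D) {E : X.ProEt}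
  {j : I} (t₀ : D.obj j ⟶ E) {B : X.ProEt} (h : B ⟶ E)

/-- base change of a system -/
noncomputable abbrev bcD : Over j ⥤ X.ProEt where
  obj k := pb (D.map k.hom ≫ t₀) h
  map {k l} f := pbLift _ _ (pbFst _ _ ≫ D.map f.left) (pbSnd _ _) (by
    rw [Category.assoc, ← D.map_comp_assoc, Over.w, pb_condition])
  map_id k := pb_hom_ext _ _ (by simp) (by simp)
  map_comp f g := pb_hom_ext _ _ (by simp) (by simp)

/-- base change of a cone -/
noncomputable abbrev bcC : Cone (bcD D t₀ h) where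
  pt := pb (c.π.app j ≫ t₀) h
  π :=
    { app := fun k => pbLift _ _ (pbFst _ _ ≫ c.π.app k.left) (pbSnd _ _) (by
        rw [Category.assoc, ← Category.assoc (c.π.app k.left), c.w, pb_condition])
      naturality := fun k l f => pb_hom_ext _ _ (by simp) (by simp) }

variable {D c}

theorem IsAffLimit.bc (hc : IsAffLimit c) [IsAffine E.left] [IsAffine B.left] : IsAffLimit (bcC D c t₀ h) := by
  refine ⟨fun k => ?_, ⟨?_⟩⟩
  · haveI := hc.aff k.left
    exact isAffine_pb _ _
  · haveI : IsConnected (Over j) := isConnected_of_hasTerminal _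
    let F := Scheme.ProEt.forget X ⋙ Over.forget X
    refine isLimitOfIsPullbackOfIsConnected
      ({ app := fun k => (pbFst (D.map k.hom ≫ t₀) h).left
         naturality := fun k l f => congrArg (fun q : (bcD D t₀ h).obj k ⟶ D.obj l.left => q.left)
           (pbLift_fst (D.map l.hom ≫ t₀) h (pbFst (D.map k.hom ≫ t₀) h ≫ D.map f.left)
             (pbSnd (D.map k.hom ≫ t₀) h) (by rw [Category.assoc, ← D.map_comp_assoc, Over.w, pb_condition])) } :
        bcD D t₀ h ⋙ F ⟶ Over.forget j ⋙ sys D)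
      (F.mapCone (bcC D c t₀ h)) ((F.mapCone c).whisker (Over.forget j))
      { hom := (pbFst (c.π.app j ≫ t₀) h).left
        w := fun k => (congrArg (fun q => q.left)
          (pbLift_fst (D.map k.hom ≫ t₀) h (pbFst _ _ ≫ c.π.app k.left) (pbSnd _ _) (by
            rw [Category.assoc, ← Category.assoc (c.π.app k.left), c.w, pb_condition]))).symm } (fun k => ?_)
      ((Functor.Initial.isLimitWhiskerEquiv (Over.forget j) (F.mapCone c)).symm hc.lim.some)
    have e : (c.π.app k.left).left ≫ (D.map k.hom ≫ t₀).left = (c.π.app j ≫ t₀).left :=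
      congrArg (fun q => q.left) (show c.π.app k.left ≫ D.map k.hom ≫ t₀ = c.π.app j ≫ t₀ by
        rw [← Category.assoc, c.w])
    refine IsPullback.of_right ?_ ?_ (IsPullback.of_hasPullback (D.map k.hom ≫ t₀).left h.left).flip
    · have e2 : ((bcC D c t₀ h).π.app k).left ≫ (pbSnd (D.map k.hom ≫ t₀) h).left =
          (pbSnd (c.π.app j ≫ t₀) h).left := congrArg (fun q : (bcC D c t₀ h).pt ⟶ B => q.left)
            (pbLift_snd (D.map k.hom ≫ t₀) h (pbFst (c.π.app j ≫ t₀) h ≫ c.π.app k.left) (pbSnd _ _) (by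
              rw [Category.assoc, ← Category.assoc (c.π.app k.left), c.w, pb_condition]))
      change CategoryTheory.IsPullback (((bcC D c t₀ h).π.app k).left ≫ pullback.snd _ _) _ _
        ((c.π.app k.left).left ≫ _)
      rw [e]
      exact e2.symm ▸ (IsPullback.of_hasPullback (c.π.app j ≫ t₀).left h.left).flip
    · exact congrArg (fun q : (bcC D c t₀ h).pt ⟶ D.obj k.left => q.left)
        (pbLift_fst (D.map k.hom ≫ t₀) h (pbFst (c.π.app j ≫ t₀) h ≫ c.π.app k.left) (pbSnd _ _) (by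
          rw [Category.assoc, ← Category.assoc (c.π.app k.left), c.w, pb_condition]))

end System

variable {I : Type u} [SmallCategory I] [IsCofiltered I] {D : I ⥤ X.ProEt} {c : Cone D} (hc : IsAffLimit c)
  {E : X.ProEt} [IsAffine E.left] {G : ProEtS.AbP X} {ι : Type u} [Finite ι] {W : ι → X.ProEt}
  (hW : ∀ b, IsAffine (W b).left) (h : ∀ b, W b ⟶ E) (hs : ∀ e, ∃ b, e ∈ Set.range (h b).left.base)
  (hG : ∀ b, ∃ (M : Type (u + 1)) (_ : AddCommGroup M) (φ : M →+ G.obj.obj (op (W b))), IsConstOn G φ)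

include hc hW hs hG

/-- sections vanishing on the limit vanish at a stage -/
theorem exists_map_eq_zero_of_cover {j : I} (t₀ : D.obj j ⟶ E) (s : G.obj.obj (op (D.obj j)))
    (h0 : G.obj.map (c.π.app j).op s = 0) : ∃ (k : I) (f : k ⟶ j), G.obj.map (D.map f).op s = 0 := by
  classical
  haveI := Fintype.ofFinite ι
  have key : ∀ b, ∃ k : Over j, G.obj.map (pbFst (D.map k.hom ≫ t₀) (h b) ≫ D.map k.hom).op s = 0 := fun b => by
    obtain ⟨M, _, φ, hφ⟩ := hG b
    haveI := hW b
    obtain ⟨k, f, hk⟩ := IsConstOn.exists_map_eq_zero (hc.bc t₀ (h b)) hφ (j := Over.mk (𝟙 j))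
      (pbSnd _ (h b)) (G.obj.map (pbFst _ (h b) ≫ D.map (𝟙 j)).op s) (by
        rw [map_map, ← Category.assoc, pbLift_fst, Category.assoc, D.map_id, Category.comp_id]
        exact (map_map G (c.π.app j) _ s).symm.trans ((congrArg _ h0).trans (map_zero _)))
    refine ⟨k, ?_⟩
    rw [map_map, ← Category.assoc] at hk
    rw [← hk, pbLift_fst, Category.assoc, ← D.map_comp, show f.left ≫ 𝟙 j = k.hom from Over.w f]
  choose k hk using key
  obtain ⟨o, ho⟩ := IsCofiltered.inf_objs_exists (Finset.univ.image k)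
  refine ⟨o.left, o.hom, ?_⟩
  haveI := hc.aff o.left
  refine eq_of_cover G (mem_topology_of_finite (fun b => pb (D.map o.hom ≫ t₀) (h b))
    (fun b => pbFst _ (h b)) (fun b => by haveI := hW b; exact isAffine_pb _ _)
    (pb_jointly_surjective _ h hs)) ?_
  rintro T _ ⟨_, a, _, ⟨b⟩, rfl⟩
  obtain ⟨f⟩ := ho (Finset.mem_image_of_mem k (Finset.mem_univ b))
  have e : pbFst (D.map o.hom ≫ t₀) (h b) ≫ D.map o.hom =
      (bcD D t₀ (h b)).map f ≫ pbFst (D.map (k b).hom ≫ t₀) (h b) ≫ D.map (k b).hom := by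
    rw [pbLift_fst_assoc, Category.assoc, ← D.map_comp, Over.w]
  rw [map_zero, map_map, Category.assoc, e, ← Category.assoc]
  exact (map_map G (pbFst _ (h b) ≫ D.map (k b).hom) (a ≫ (bcD D t₀ (h b)).map f) s).symm.trans
    ((congrArg _ (hk b)).trans (map_zero _))

/-- sections on the limit come from a stage -/
theorem exists_map_eq_of_cover {j : I} (t₀ : D.obj j ⟶ E) (t : G.obj.obj (op c.pt)) :
    ∃ (k : I) (_ : k ⟶ j) (s : G.obj.obj (op (D.obj k))), G.obj.map (c.π.app k).op s = t := by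
  classical
  haveI := Fintype.ofFinite ι
  have key : ∀ b, ∃ (k : Over j) (s : G.obj.obj (op (pb (D.map k.hom ≫ t₀) (h b)))),
      G.obj.map ((bcC D c t₀ (h b)).π.app k).op s = G.obj.map (pbFst (c.π.app j ≫ t₀) (h b)).op t := fun b => by
    obtain ⟨M, _, φ, hφ⟩ := hG b
    haveI := hW b
    obtain ⟨k, -, s, hk⟩ := IsConstOn.exists_map_eq (hc.bc t₀ (h b)) hφ (j := Over.mk (𝟙 j))
      (pbSnd _ (h b)) (G.obj.map (pbFst (c.π.app j ≫ t₀) (h b)).op t)
    exact ⟨k, s, hk⟩
  choose k s hk using key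
  obtain ⟨o, ho⟩ := IsCofiltered.inf_objs_exists (Finset.univ.image k)
  choose f hf using fun b => (⟨(ho (Finset.mem_image_of_mem k (Finset.mem_univ b))).some, trivial⟩ :
    ∃ f : o ⟶ k b, True)
  obtain ⟨s', hs'⟩ : ∃ s' : ∀ b, G.obj.obj (op (pb (D.map o.hom ≫ t₀) (h b))),
      ∀ b, G.obj.map ((bcC D c t₀ (h b)).π.app o).op (s' b) =
        G.obj.map (pbFst (c.π.app j ≫ t₀) (h b)).op t := by
    refine ⟨fun b => G.obj.map ((bcD D t₀ (h b)).map (f b)).op (s b), fun b => ?_⟩
    rw [map_map, (bcC D c t₀ (h b)).w]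
    exact hk b
  have cmp : ∀ p : ι × ι, ∃ q : Over o, ∀ (Z : X.ProEt) (e : Z ⟶ D.obj q.left.left) (x : Z ⟶ W p.1)
      (y : Z ⟶ W p.2) (hx : (e ≫ D.map q.hom.left) ≫ D.map o.hom ≫ t₀ = x ≫ h p.1)
      (hy : (e ≫ D.map q.hom.left) ≫ D.map o.hom ≫ t₀ = y ≫ h p.2),
      G.obj.map (pbLift _ (h p.1) _ x hx).op (s' p.1) = G.obj.map (pbLift _ (h p.2) _ y hy).op (s' p.2) := fun p => by
    obtain ⟨M, _, φ, hφ⟩ := hG p.1
    haveI := hW p.1
    haveI := hW p.2
    haveI := isAffine_pb (h p.1) (h p.2)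
    let hB : pb (h p.1) (h p.2) ⟶ E := pbFst (h p.1) (h p.2) ≫ h p.1
    let r₁ : pb (D.map o.hom ≫ t₀) hB ⟶ pb (D.map o.hom ≫ t₀) (h p.1) :=
      pbLift _ _ (pbFst _ _) (pbSnd _ _ ≫ pbFst _ _) (by rw [pb_condition, Category.assoc])
    let r₂ : pb (D.map o.hom ≫ t₀) hB ⟶ pb (D.map o.hom ≫ t₀) (h p.2) :=
      pbLift _ _ (pbFst _ _) (pbSnd _ _ ≫ pbSnd _ _) (by
        rw [pb_condition, Category.assoc]
        exact congrArg (pbSnd _ _ ≫ ·) (pb_condition (h p.1) (h p.2)))
    obtain ⟨q, g, hq⟩ := IsConstOn.exists_map_eq_zero (hc.bc t₀ hB) hφ (j := o)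
      (pbSnd _ hB ≫ pbFst _ _) (G.obj.map r₁.op (s' p.1) - G.obj.map r₂.op (s' p.2)) (by
        let u₁ : (bcC D c t₀ hB).pt ⟶ (bcC D c t₀ (h p.1)).pt :=
          pbLift _ _ (pbFst _ _) (pbSnd _ _ ≫ pbFst _ _) (by rw [pb_condition, Category.assoc])
        let u₂ : (bcC D c t₀ hB).pt ⟶ (bcC D c t₀ (h p.2)).pt :=
          pbLift _ _ (pbFst _ _) (pbSnd _ _ ≫ pbSnd _ _) (by
        rw [pb_condition, Category.assoc]
        exact congrArg (pbSnd _ _ ≫ ·) (pb_condition (h p.1) (h p.2)))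
        have e₁ : (bcC D c t₀ hB).π.app o ≫ r₁ = u₁ ≫ (bcC D c t₀ (h p.1)).π.app o :=
          pb_hom_ext _ _ (by simp [r₁, u₁]) (by simp [r₁, u₁])
        have e₂ : (bcC D c t₀ hB).π.app o ≫ r₂ = u₂ ≫ (bcC D c t₀ (h p.2)).π.app o :=
          pb_hom_ext _ _ (by simp [r₂, u₂]) (by simp [r₂, u₂])
        rw [map_sub, map_map, map_map, e₁, e₂, ← map_map G _ u₁, ← map_map G _ u₂, hs', hs', map_map, map_map,
          sub_eq_zero]
        simp [u₁, u₂])
    refine ⟨Over.mk g, fun Z e x y hx hy => ?_⟩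
    have hw : q.hom = g.left ≫ o.hom := (Over.w g).symm
    let l : Z ⟶ pb (D.map q.hom ≫ t₀) hB := pbLift _ _ e (pbLift _ _ x y (hx.symm.trans hy)) (by
      rw [hw, D.map_comp, Category.assoc, pbLift_fst_assoc, ← hx]
      simp only [Category.assoc, Over.mk_hom])
    have hl := congrArg (fun a => G.obj.map l.op a) hq
    rw [map_sub, map_map, map_map, map_sub, map_map, map_map, map_zero, sub_eq_zero] at hl
    refine Eq.trans ?_ (hl.trans ?_)
    · refine congrArg (fun a : Z ⟶ pb (D.map o.hom ≫ t₀) (h p.1) => G.obj.map a.op (s' p.1)) ?_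
      exact pb_hom_ext _ _ (by simp [r₁, l]) (by simp [r₁, l])
    · refine congrArg (fun a : Z ⟶ pb (D.map o.hom ≫ t₀) (h p.2) => G.obj.map a.op (s' p.2)) ?_
      exact pb_hom_ext _ _ (by simp [r₂, l]) (by simp [r₂, l])
  choose q hq using cmp
  obtain ⟨o', ho'⟩ := IsCofiltered.inf_objs_exists (insert (Over.mk (𝟙 o)) (Finset.univ.image q))
  haveI := hc.aff o'.left.left
  let P : ι → X.ProEt := fun b => pb (D.map o'.left.hom ≫ t₀) (h b)
  have hcov := mem_topology_of_finite P (fun b => pbFst _ (h b))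
    (fun b => by haveI := hW b; exact isAffine_pb _ _) (pb_jointly_surjective _ h hs)
  have hsh := Presieve.isSheafFor_iff_generate _ |>.2
    (((isSheaf_iff_isSheaf_of_type _ _).1
      ((sheafCompose _ (forget AddCommGrpCat.{u + 1})).obj G).2) _ hcov)
  obtain ⟨σ, hσ, -⟩ := (Presieve.isSheafFor_arrows_iff _ _).1 hsh
    (fun b => G.obj.map ((bcD D t₀ (h b)).map o'.hom).op (s' b)) fun b b' Z x y hxy => by
    show G.obj.map x.op (G.obj.map _ (s' b)) = G.obj.map y.op (G.obj.map _ (s' b'))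
    obtain ⟨g⟩ := ho' (Finset.mem_insert_of_mem (Finset.mem_image_of_mem q (Finset.mem_univ (b, b'))))
    have hg : D.map g.left.left ≫ D.map (q (b, b')).hom.left = D.map o'.hom.left := by
      rw [← D.map_comp]
      exact congrArg (fun a => D.map a.left) (Over.w g)
    have ho : D.map o'.hom.left ≫ D.map o.hom = D.map o'.left.hom := by rw [← D.map_comp, Over.w]
    have hxy' : x ≫ pbFst _ (h b) = y ≫ pbFst _ (h b') := hxy
    have hx : ((x ≫ pbFst _ (h b) ≫ D.map g.left.left) ≫ D.map (q (b, b')).hom.left) ≫ D.map o.hom ≫ t₀ =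
        (x ≫ pbSnd _ (h b)) ≫ h b := by
      rw [Category.assoc x (pbSnd _ (h b)), ← pb_condition]
      simp only [Category.assoc]
      rw [reassoc_of% hg, reassoc_of% ho]
    have hy : ((x ≫ pbFst _ (h b) ≫ D.map g.left.left) ≫ D.map (q (b, b')).hom.left) ≫ D.map o.hom ≫ t₀ =
        (y ≫ pbSnd _ (h b')) ≫ h b' := by
      rw [Category.assoc y (pbSnd _ (h b')), ← pb_condition]
      simp only [Category.assoc]
      rw [reassoc_of% hg, reassoc_of% ho, reassoc_of% hxy']
    rw [map_map, map_map]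
    refine Eq.trans ?_ ((hq (b, b') Z _ _ _ hx hy).trans ?_)
    · refine congrArg (fun a : Z ⟶ pb (D.map o.hom ≫ t₀) (h b) => G.obj.map a.op (s' b)) ?_
      exact pb_hom_ext _ _ (by simp [hg]) (by simp)
    · refine congrArg (fun a : Z ⟶ pb (D.map o.hom ≫ t₀) (h b') => G.obj.map a.op (s' b')) ?_
      exact pb_hom_ext _ _ (by simp [hg, reassoc_of% hxy']) (by simp)
  refine ⟨o'.left.left, o'.left.hom, σ, ?_⟩
  haveI := hc.compactSpace_pt
  haveI : IsAffine c.pt.left := by
    haveI : ∀ {a b : I} (f : a ⟶ b), IsAffineHom ((sys D).map f) := fun f => hc.isAffineHom f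
    haveI : ∀ i, IsAffine ((sys D).obj i) := hc.aff
    exact Scheme.isAffine_of_isLimit _ hc.lim.some
  haveI : IsAffine (((Functor.const I).obj c.pt).obj j).left := ‹IsAffine c.pt.left›
  refine eq_of_cover G (mem_topology_of_finite (U := c.pt) (fun b => pb (c.π.app j ≫ t₀) (h b))
    (fun b => pbFst _ (h b)) (fun b => by haveI := hW b; exact isAffine_pb _ _) (pb_jointly_surjective _ h hs)) ?_
  rintro T _ ⟨_, a, _, ⟨b⟩, rfl⟩
  rw [← map_map G (pbFst _ (h b)) a t, ← hs' b, map_map, map_map]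
  have hb : G.obj.map (pbFst _ (h b)).op σ = G.obj.map ((bcD D t₀ (h b)).map o'.hom).op (s' b) := hσ b
  have e : pbFst (c.π.app j ≫ t₀) (h b) ≫ c.π.app o'.left.left =
      (bcC D c t₀ (h b)).π.app o'.left ≫ pbFst _ (h b) := by simp
  rw [Category.assoc a, e, ← map_map G (pbFst _ (h b)) (a ≫ (bcC D c t₀ (h b)).π.app o'.left) σ |>.trans
    (congrArg (fun z => G.obj.map z.op σ) (Category.assoc a _ _)), hb, map_map]
  refine congrArg (fun z : T ⟶ pb (D.map o.hom ≫ t₀) (h b) => G.obj.map z.op (s' b)) ?_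
  rw [Category.assoc, (bcC D c t₀ (h b)).w]

end Groth.Agent.EtModWLib.LocConstP
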