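import Groth.Agent.EtModWLib.LocConstP.Loci
import Groth.Agent.ProEtLib.EpsVanish

/-!
# Sheaves constant over an étale object and their inverse images on the pro-étale site
-/

set_option autoImplicit false

universe u

open CategoryTheory CategoryTheory.Limits AlgebraicGeometry Opposite MorphismProperty

namespace Groth.Agent.EtModWLib.LocConstP

set_option backward.isDefEq.respectTransparency.types false

open ProEtLib SitePullUnit

variable {X : Scheme.{u}} [ProEtS.EpsCont X]

local notation "E" => ProEtS.eps X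
local notation "K" => Scheme.ProEt.topology X

instance representablyFlat_eps : RepresentablyFlat (ProEtS.eps X) := repFlat_eps

theorem isEmpty_of_bot_etale {U : X.Etale} (h : (⊥ : Sieve U) ∈ X.smallEtaleTopology U) : IsEmpty U.left :=
  ⟨fun z => by
    obtain ⟨_, f, _, hf, -⟩ := (EtFound.mem_topology_iff _).1 h z
    exact hf⟩

theorem bot_mem_etale {U : X.Etale} [IsEmpty U.left] : (⊥ : Sieve U) ∈ X.smallEtaleTopology U :=
  (EtFound.mem_topology_iff _).2 fun z => isEmptyElim z

/-- The image family on the pro-étale side. -/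
noncomputable def pulledFam (F : EtCoh.Ab X) {U : X.Etale} {M : Type (u + 1)} [AddCommGroup M]
    (φ : M →+ F.obj.obj (op U)) : M →+ ((pullC X).obj F).obj.obj (op ((E).obj U)) :=
  (((pullC X).obj F).obj.map (𝟙 ((E).obj U)).op).hom.comp (((conUnit E K F).app (op U)).hom.comp φ)

theorem pulledFam_apply (F : EtCoh.Ab X) {U : X.Etale} {M : Type (u + 1)} [AddCommGroup M]
    (φ : M →+ F.obj.obj (op U)) (m : M) :
    pulledFam F φ m = sGerm E K F (𝟙 ((E).obj U)) (φ m) := rfl

theorem map_pulledFam (F : EtCoh.Ab X) {U : X.Etale} {M : Type (u + 1)} [AddCommGroup M]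
    (φ : M →+ F.obj.obj (op U)) {T : X.ProEt} (g : T ⟶ (E).obj U) (m : M) :
    ((pullC X).obj F).obj.map g.op (pulledFam F φ m) = sGerm E K F g (φ m) :=
  (map_sGerm E K F g (𝟙 _) (φ m)).trans (by rw [Category.comp_id])

theorem IsConstOn.pullC {F : EtCoh.Ab X} {U : X.Etale} {M : Type (u + 1)} [AddCommGroup M]
    {φ : M →+ F.obj.obj (op U)} (h : IsConstOn F φ) :
    IsConstOn ((ProEtLib.pullC X).obj F) (pulledFam F φ) := by
  have := repFlat_eps (X := X)
  constructor
  · intro T g s
    obtain ⟨R, hR, hR'⟩ := exists_cover_sGerm E K F (d := T) s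
    refine ⟨{ arrows := fun T' f => ∃ m : M, ((ProEtLib.pullC X).obj F).obj.map f.op s =
          ((ProEtLib.pullC X).obj F).obj.map (f ≫ g).op (pulledFam F φ m)
              downward_closed := fun {A B f} ⟨m, hm⟩ a => ⟨m, by
                rw [Category.assoc, ← map_map _ f a, hm, map_map]⟩ }, ?_, fun T' f hf => hf⟩
    refine (Scheme.ProEt.topology X).transitive hR _ fun T' f hf => ?_
    obtain ⟨U', b, x, hx⟩ := hR' f hf
    haveI : Etale U.hom := U.prop
    haveI : Etale U'.hom := U'.prop
    let P : X.Etale := Scheme.Etale.mk (pullback.fst U.hom U'.hom ≫ U.hom)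
    let p : P ⟶ U := MorphismProperty.Over.homMk (pullback.fst U.hom U'.hom)
    let p' : P ⟶ U' := MorphismProperty.Over.homMk (pullback.snd U.hom U'.hom) pullback.condition.symm
    let l : T' ⟶ (E).obj P := MorphismProperty.Over.homMk
      (pullback.lift ((f ≫ g).left : T'.left ⟶ U.left) (b.left : T'.left ⟶ U'.left)
        ((MorphismProperty.Over.w (f ≫ g)).trans (MorphismProperty.Over.w b).symm)) (by
        change pullback.lift _ _ _ ≫ pullback.fst U.hom U'.hom ≫ U.hom = _
        rw [pullback.lift_fst_assoc]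
        exact MorphismProperty.Over.w (f ≫ g))
    have hl : l ≫ (E).map p = f ≫ g := MorphismProperty.Over.Hom.ext (pullback.lift_fst _ _ _)
    have hl' : l ≫ (E).map p' = b := MorphismProperty.Over.Hom.ext (pullback.lift_snd _ _ _)
    obtain ⟨S, hS, hS'⟩ := h.surj p (F.obj.map p'.op x)
    obtain ⟨hS0⟩ : Nonempty (∀ z : P.left, ∃ (Q : X.Etale) (q : Q ⟶ P) (v : Q.left), S q ∧ q.left.base v = z) :=
      ⟨(EtFound.mem_topology_iff S).1 hS⟩
    choose Q q v hq hv using hS0
    have hcov : Sieve.generate (Presieve.ofArrows (fun z => (E).obj (Q z)) fun z => (E).map (q z)) ∈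
        Scheme.ProEt.topology X ((E).obj P) :=
      mem_topology_of_etale (fun z => (E).obj (Q z)) (fun z => (E).map (q z))
        (fun z => EtFound.etale_left (q z)) (fun z => ⟨z, v z, hv z⟩) (fun z => Sieve.le_generate _ _ _ ⟨z⟩)
    refine (Scheme.ProEt.topology X).superset_covering ?_ ((Scheme.ProEt.topology X).pullback_stable l hcov)
    rintro T'' e ⟨_, a, _, ⟨z⟩, ha⟩
    obtain ⟨m, hm⟩ := hS' (q z) (hq z)
    refine ⟨m, ?_⟩
    refine ((map_map _ f e s).symm.trans ((congrArg (fun w => (pulled (E) K F).map e.op w) hx.symm).trans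
      (map_sGerm (E) K F e b x))).trans (Eq.trans ?_ (map_pulledFam F φ _ m).symm)
    rw [← hl', ← Category.assoc, ← sGerm_map,
      ← ha, ← sGerm_map, hm, sGerm_map, Category.assoc e f, ← hl, ← Category.assoc e l, ← ha, Category.assoc,
      ← Functor.map_comp]
  · intro T g m hm
    by_cases h0 : m = 0
    · exact Or.inl h0
    refine Or.inr ?_
    have e : sGerm E K F g (φ m) = sGerm E K F g (φ 0) := by
      rw [← map_pulledFam, ← map_pulledFam, hm, map_zero, map_zero]
    obtain ⟨R, hR, hR'⟩ := exists_cover_of_sGerm_eq E K F g _ _ e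
    haveI : IsEmpty T.left := ⟨fun t => by
      obtain ⟨T', f, t', hf, -⟩ := exists_hit hR t
      obtain ⟨U', b', c, -, hc⟩ := hR' f hf
      rw [map_zero, map_zero] at hc
      exact (isEmpty_of_bot_etale ((h.inj c m hc).resolve_left h0)).false (b'.left.base t')⟩
    exact bot_mem

/-- The adjunction with the constructed inverse image. -/
noncomputable abbrev adjC : ProEtLib.pullC X ⊣ ProEtS.epsPush X :=
  Functor.sheafPullbackConstruction.sheafAdjunctionContinuous (ProEtS.eps X) AddCommGrpCat.{u + 1}
    X.smallEtaleTopology (Scheme.ProEt.topology X)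

theorem counit_sGerm (A : ProEtS.AbP X) {T : X.ProEt} {U : X.Etale} (b : T ⟶ (E).obj U)
    (x : ((ProEtS.epsPush X).obj A).obj.obj (op U)) :
    (adjC.counit.app A).hom.app (op T) (sGerm E K ((ProEtS.epsPush X).obj A) b x) = A.obj.map b.op x := by
  refine (NatTrans.naturality_apply (adjC.counit.app A).hom b.op _).trans ?_
  refine congrArg (fun q => A.obj.map b.op q) ?_
  have h := congrArg (fun q : (ProEtS.epsPush X).obj A ⟶ (ProEtS.epsPush X).obj A => q.hom.app (op U) x)
    (adjC.right_triangle_components A)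
  refine Eq.trans ?_ h
  have hu := NatTrans.congr_app (unit_con E K ((ProEtS.epsPush X).obj A) :
    (adjC.unit.app ((ProEtS.epsPush X).obj A)).hom = _) (op U)
  exact congrArg (fun q => (adjC.counit.app A).hom.app (op ((E).obj U)) q) (ConcreteCategory.congr_hom hu x).symm

theorem counit_pulledFam (A : ProEtS.AbP X) {U : X.Etale} {M : Type (u + 1)} [AddCommGroup M]
    (φ : M →+ ((ProEtS.epsPush X).obj A).obj.obj (op U)) (m : M) :
    (adjC.counit.app A).hom.app (op ((E).obj U)) (pulledFam ((ProEtS.epsPush X).obj A) φ m) = φ m :=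
  (counit_sGerm A _ _).trans (by rw [op_id, CategoryTheory.Functor.map_id]; rfl)

/-- constancy over the image of an étale object descends to the étale site -/
theorem IsConstOn.epsPush {A : ProEtS.AbP X} {U : X.Etale} {M : Type (u + 1)} [AddCommGroup M]
    {φ : M →+ A.obj.obj (op ((E).obj U))} (h : IsConstOn A φ) :
    IsConstOn ((ProEtS.epsPush X).obj A) (V := U) φ := by
  constructor
  · intro T g s
    choose m hm using h.exists_mem_locus (T := (E).obj T) ((E).map g) s
    let O : T.left → T.left.Opens := fun z => locus φ ((E).map g) s (m z)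
    haveI : Etale T.hom := T.prop
    let P : T.left → X.Etale := fun z => Scheme.Etale.mk ((O z).ι ≫ T.hom)
    let p : ∀ z, P z ⟶ T := fun z => MorphismProperty.Over.homMk (O z).ι
    refine ⟨Sieve.generate (Presieve.ofArrows P p), (EtFound.mem_topology_iff _).2 fun z =>
      ⟨P z, p z, ⟨z, hm z⟩, Sieve.le_generate _ _ _ ⟨z⟩, rfl⟩, ?_⟩
    rintro T' _ ⟨_, a, _, ⟨z⟩, rfl⟩
    refine ⟨m z, ?_⟩
    have h1 := eq_of_forall_mem_locus (φ := φ) (g := (E).map g) (s := s) (m := m z) ((E).map (p z))
      fun w => w.2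
    have h2 := congrArg (fun q => A.obj.map ((E).map a).op q) h1
    rw [map_map, map_map, ← Category.assoc, ← Functor.map_comp, ← Functor.map_comp] at h2
    exact h2
  · intro T g m hm
    rcases h.inj ((E).map g) m hm with h0 | h0
    · exact Or.inl h0
    · refine Or.inr ?_
      haveI : IsEmpty T.left := ⟨fun t => not_bot_mem (T := (E).obj T) t h0⟩
      exact bot_mem_etale

end Groth.Agent.EtModWLib.LocConstP
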