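import Mathlib.CategoryTheory.Sites.ConstantSheaf
import Mathlib.CategoryTheory.Sites.LocallyBijective
import Mathlib.CategoryTheory.Sites.Over
import Mathlib.Algebra.Category.ModuleCat.Basic
import Mathlib.Algebra.Category.Grp.Basic
import Mathlib.Algebra.Category.Grp.Limits
import Mathlib.Algebra.Category.Grp.Colimits
import Mathlib.Algebra.Category.Grp.FilteredColimits
import Mathlib.Algebra.Category.ModuleCat.Colimits
import Mathlib.Algebra.Category.ModuleCat.Limits
import Mathlib.CategoryTheory.Sites.Whiskering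

/-!
# Sheaves constant over an object, by families of sections
-/

set_option autoImplicit false

universe u

open CategoryTheory CategoryTheory.Limits Opposite

namespace Groth.Agent.EtModWLib.LocConstP

set_option backward.isDefEq.respectTransparency.types false

variable {C : Type (u + 1)} [Category.{u} C] {J : GrothendieckTopology C}

/-- A family of sections over `V` making an abelian sheaf constant over `V`. -/
structure IsConstOn (G : Sheaf J AddCommGrpCat.{u + 1}) {V : C} {M : Type (u + 1)} [AddCommGroup M]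
    (φ : M →+ G.obj.obj (op V)) : Prop where
  surj : ∀ ⦃T : C⦄ (g : T ⟶ V) (s : G.obj.obj (op T)), ∃ R ∈ J T, ∀ ⦃T' : C⦄ (f : T' ⟶ T), R f →
    ∃ m : M, G.obj.map f.op s = G.obj.map (f ≫ g).op (φ m)
  inj : ∀ ⦃T : C⦄ (g : T ⟶ V) (m : M), G.obj.map g.op (φ m) = 0 → m = 0 ∨ (⊥ : Sieve T) ∈ J T

section Ab

variable {G : Sheaf J AddCommGrpCat.{u + 1}} {V : C} {M : Type (u + 1)} [AddCommGroup M]
  {φ : M →+ G.obj.obj (op V)}

lemma map_map (G : Sheaf J AddCommGrpCat.{u + 1}) {A B D : C} (g : B ⟶ A) (f : D ⟶ B) (s : G.obj.obj (op A)) :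
    G.obj.map f.op (G.obj.map g.op s) = G.obj.map (f ≫ g).op s := by
  rw [op_comp, Functor.map_comp]
  rfl

lemma eq_of_cover (G : Sheaf J AddCommGrpCat.{u + 1}) {T : C} {R : Sieve T} (hR : R ∈ J T)
    {s t : G.obj.obj (op T)} (h : ∀ ⦃T' : C⦄ (f : T' ⟶ T), R f → G.obj.map f.op s = G.obj.map f.op t) : s = t :=
  (((isSheaf_iff_isSheaf_of_type _ _).1
    ((sheafCompose J (forget AddCommGrpCat.{u + 1})).obj G).2) R hR).isSeparatedFor.ext h

lemma eq_of_bot (G : Sheaf J AddCommGrpCat.{u + 1}) {T : C} (hT : (⊥ : Sieve T) ∈ J T)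
    (s t : G.obj.obj (op T)) : s = t :=
  eq_of_cover G hT fun _ f hf => (show False from hf).elim

theorem IsConstOn.restrict (h : IsConstOn G φ) {V' : C} (v : V' ⟶ V) :
    IsConstOn G ((G.obj.map v.op).hom.comp φ) where
  surj T g s := by
    obtain ⟨R, hR, hR'⟩ := h.surj (g ≫ v) s
    refine ⟨R, hR, fun T' f hf => ?_⟩
    obtain ⟨m, hm⟩ := hR' f hf
    refine ⟨m, hm.trans ?_⟩
    rw [← Category.assoc]
    exact (map_map G v (f ≫ g) (φ m)).symm
  inj T g m hm := h.inj (g ≫ v) m ((map_map G v g (φ m)).symm.trans hm)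

theorem IsConstOn.unique (h : IsConstOn G φ) {T : C} (g : T ⟶ V) (hT : (⊥ : Sieve T) ∉ J T) {m m' : M}
    (e : G.obj.map g.op (φ m) = G.obj.map g.op (φ m')) : m = m' := by
  refine sub_eq_zero.1 ((h.inj g (m - m') ?_).resolve_right hT)
  rw [map_sub, map_sub, e, sub_self]

theorem IsConstOn.of_map {H : Sheaf J AddCommGrpCat.{u + 1}} (e : G ≅ H) (h : IsConstOn G φ) :
    IsConstOn H ((e.hom.hom.app (op V)).hom.comp φ) := by
  have hi : ∀ {T : C} (s : H.obj.obj (op T)), e.hom.hom.app (op T) (e.inv.hom.app (op T) s) = s := fun {T} s =>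
    congrArg (fun q : H ⟶ H => q.hom.app (op T) s) e.inv_hom_id
  have hi' : ∀ {T : C} (s : G.obj.obj (op T)), e.inv.hom.app (op T) (e.hom.hom.app (op T) s) = s := fun {T} s =>
    congrArg (fun q : G ⟶ G => q.hom.app (op T) s) e.hom_inv_id
  constructor
  · intro T g s
    obtain ⟨R, hR, hR'⟩ := h.surj g (e.inv.hom.app (op T) s)
    refine ⟨R, hR, fun T' f hf => ?_⟩
    obtain ⟨m, hm⟩ := hR' f hf
    refine ⟨m, ?_⟩
    have h2 := congrArg (fun q => e.hom.hom.app (op T') q) hm
    refine Eq.trans ?_ (h2.trans (NatTrans.naturality_apply e.hom.hom (f ≫ g).op (φ m)))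
    exact ((congrArg (fun q => H.obj.map f.op q) (hi s)).symm.trans
      (NatTrans.naturality_apply e.hom.hom f.op (e.inv.hom.app (op T) s)).symm)
  · intro T g m hm
    refine h.inj g m ?_
    refine (hi' _).symm.trans ?_
    refine (congrArg _ ((NatTrans.naturality_apply e.hom.hom g.op (φ m)).trans hm)).trans ?_
    exact map_zero _

/-- A morphism carrying constant families to constant families, over objects locally covering everything, is an
isomorphism. -/
theorem isIso_of_charts [J.WEqualsLocallyBijective AddCommGrpCat.{u + 1}] {A B : Sheaf J AddCommGrpCat.{u + 1}}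
    (κ : A ⟶ B)
    (hcov : ∀ T : C, ∃ R ∈ J T, ∀ ⦃T' : C⦄ (f : T' ⟶ T), R f →
      ∃ (V : C) (_ : T' ⟶ V) (M : Type (u + 1)) (_ : AddCommGroup M) (φ : M →+ A.obj.obj (op V))
        (ψ : M →+ B.obj.obj (op V)), IsConstOn A φ ∧ IsConstOn B ψ ∧ ∀ m, κ.hom.app (op V) (φ m) = ψ m) :
    IsIso κ := by
  refine (Sheaf.isLocallyBijective_iff_isIso κ).1 ⟨⟨?_⟩, ⟨?_⟩⟩
  · rintro ⟨T⟩ a a' haa'
    obtain ⟨R, hR, hR'⟩ := hcov T
    refine J.transitive hR _ fun T' f hf => ?_
    obtain ⟨V, b, M, _, φ, ψ, hA, hB, hκ⟩ := hR' f hf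
    obtain ⟨S, hS, hS'⟩ := hA.surj b (A.obj.map f.op (a - a'))
    refine J.superset_covering ?_ hS
    intro T'' g hg
    obtain ⟨m, hm⟩ := hS' g hg
    change A.obj.map (g ≫ f).op a = A.obj.map (g ≫ f).op a'
    refine sub_eq_zero.1 ((map_sub _ _ _).symm.trans ((map_map A f g (a - a')).symm.trans (hm.trans ?_)))
    have h0 : B.obj.map (g ≫ b).op (ψ m) = 0 := by
      rw [← hκ, ← NatTrans.naturality_apply, ← hm, NatTrans.naturality_apply, NatTrans.naturality_apply,
        map_sub (κ.hom.app (op T)).hom, haa', sub_self, map_zero, map_zero]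
    rcases hB.inj (g ≫ b) m h0 with rfl | h
    · rw [map_zero, map_zero]
    · exact eq_of_bot A h _ _
  · intro T t
    obtain ⟨R, hR, hR'⟩ := hcov T
    refine J.transitive hR _ fun T' f hf => ?_
    obtain ⟨V, b, M, _, φ, ψ, hA, hB, hκ⟩ := hR' f hf
    obtain ⟨S, hS, hS'⟩ := hB.surj b (B.obj.map f.op t)
    refine J.superset_covering ?_ hS
    intro T'' g hg
    obtain ⟨m, hm⟩ := hS' g hg
    refine ⟨A.obj.map (g ≫ b).op (φ m), ?_⟩
    refine (NatTrans.naturality_apply κ.hom (g ≫ b).op (φ m)).trans ?_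
    rw [hκ, ← hm]
    exact map_map B f g t

end Ab

section Mod

variable {Λ : Type (u + 1)} [CommRing Λ] [J.HasSheafCompose (forget₂ (ModuleCat.{u + 1} Λ) AddCommGrpCat.{u + 1})]

/-- The underlying abelian sheaf. -/
noncomputable abbrev ab (G : Sheaf J (ModuleCat.{u + 1} Λ)) : Sheaf J AddCommGrpCat.{u + 1} :=
  (sheafCompose J (forget₂ (ModuleCat.{u + 1} Λ) AddCommGrpCat.{u + 1})).obj G

/-- A linear family of sections over `V` making a sheaf of modules constant over `V`. -/
def IsConstOnM (G : Sheaf J (ModuleCat.{u + 1} Λ)) {V : C} {M : ModuleCat.{u + 1} Λ}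
    (φ : M ⟶ G.obj.obj (op V)) : Prop :=
  IsConstOn (ab G) (V := V) (M := M) φ.hom.toAddMonoidHom

variable {V : C} [HasWeakSheafify (J.over V) (ModuleCat.{u + 1} Λ)]
  [(J.over V).WEqualsLocallyBijective (ModuleCat.{u + 1} Λ)]

/-- the map from the constant presheaf given by a family of sections -/
noncomputable def constPre {G : Sheaf J (ModuleCat.{u + 1} Λ)} {M : ModuleCat.{u + 1} Λ}
    (φ : M ⟶ G.obj.obj (op V)) : (Functor.const (Over V)ᵒᵖ).obj M ⟶ (G.over V).obj where
  app W := φ ≫ G.obj.map W.unop.hom.op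
  naturality W W' g := by
    refine (Category.id_comp _).trans ?_
    show φ ≫ G.obj.map W'.unop.hom.op = (φ ≫ G.obj.map W.unop.hom.op) ≫ G.obj.map g.unop.left.op
    rw [Category.assoc, ← Functor.map_comp, ← op_comp, Over.w]

lemma overEquiv_mem {W : Over V} {S : Sieve W} {R : Sieve W.left} (hR : R ∈ J W.left)
    (h : ∀ ⦃T' : C⦄ (f : T' ⟶ W.left), R f → S (Over.homMk f : Over.mk (f ≫ W.hom) ⟶ W)) : S ∈ J.over V W := by
  rw [GrothendieckTopology.mem_over_iff]
  refine J.superset_covering ?_ hR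
  intro T' f hf
  rw [Sieve.overEquiv_iff]
  exact h f hf

/-- Constant over `V`, from a family of sections. -/
theorem IsConstOnM.nonempty_iso {G : Sheaf J (ModuleCat.{u + 1} Λ)} {M : ModuleCat.{u + 1} Λ}
    {φ : M ⟶ G.obj.obj (op V)} (h : IsConstOnM G φ) :
    Nonempty (G.over V ≅ (constantSheaf (J.over V) (ModuleCat.{u + 1} Λ)).obj M) := by
  let K := J.over V
  let η := constPre φ
  have hi : Presheaf.IsLocallyInjective K η := ⟨fun {W} m m' e => by
    by_cases hm : m = m'
    · subst hm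
      exact K.superset_covering (fun _ _ _ => rfl) (K.top_mem _)
    · have h0 : (ab G).obj.map W.unop.hom.op (φ.hom.toAddMonoidHom (m - m')) = 0 := by
        refine (map_sub ((G.obj.map W.unop.hom.op).hom ∘ₗ φ.hom) m m').trans ?_
        exact sub_eq_zero.2 e
      rcases h.inj W.unop.hom (m - m') h0 with hz | hz
      · exact absurd (sub_eq_zero.1 hz) hm
      · exact overEquiv_mem hz fun T' f hf => (show False from hf).elim⟩
  have hs : Presheaf.IsLocallySurjective K η := ⟨fun {W} s => by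
    obtain ⟨R, hR, hR'⟩ := h.surj W.hom s
    refine overEquiv_mem hR fun T' f hf => ?_
    obtain ⟨m, hm⟩ := hR' f hf
    exact ⟨m, hm.symm⟩⟩
  have : IsIso ((presheafToSheaf K (ModuleCat.{u + 1} Λ)).map η) := by
    have hW : K.W η := (K.W_iff_isLocallyBijective η).2 ⟨hi, hs⟩
    rwa [K.W_iff] at hW
  let c : (constantSheaf K (ModuleCat.{u + 1} Λ)).obj M ⟶ G.over V :=
    (presheafToSheaf K _).map η ≫ (sheafificationAdjunction K _).counit.app (G.over V)
  have : IsIso c := inferInstanceAs (IsIso ((presheafToSheaf K _).map η ≫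
    (sheafificationAdjunction K _).counit.app (G.over V)))
  exact ⟨(asIso c).symm⟩

/-- A family of sections, from constancy over `V`. -/
theorem exists_isConstOnM {G : Sheaf J (ModuleCat.{u + 1} Λ)} {M : ModuleCat.{u + 1} Λ}
    (e : G.over V ≅ (constantSheaf (J.over V) (ModuleCat.{u + 1} Λ)).obj M) :
    ∃ φ : M ⟶ G.obj.obj (op V), IsConstOnM G φ := by
  let K := J.over V
  let η : (Functor.const (Over V)ᵒᵖ).obj M ⟶ (G.over V).obj := toSheafify K _ ≫ e.inv.hom
  have : IsIso e.inv.hom := inferInstanceAs (IsIso ((sheafToPresheaf _ _).map e.inv))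
  have hW : K.W η := MorphismProperty.RespectsIso.postcomp _ e.inv.hom _ (K.W_toSheafify _)
  obtain ⟨hinj, hsurj⟩ := (K.W_iff_isLocallyBijective η).1 hW
  have key : ∀ (W : Over V) (m : M), η.app (op W) m = G.obj.map W.hom.op (η.app (op (Over.mk (𝟙 V))) m) :=
    fun W m => (NatTrans.naturality_apply η (Over.homMk W.hom (Category.comp_id _) : W ⟶ Over.mk (𝟙 V)).op m)
  refine ⟨η.app (op (Over.mk (𝟙 V))), ⟨fun T g s => ?_, fun T g m hm => ?_⟩⟩
  · have h1 := hsurj.imageSieve_mem (U := Over.mk g) s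
    rw [GrothendieckTopology.mem_over_iff] at h1
    refine ⟨_, h1, fun T' f hf => ?_⟩
    rw [Sieve.overEquiv_iff] at hf
    obtain ⟨m, hm⟩ := hf
    exact ⟨m, hm.symm.trans (key (Over.mk (f ≫ g)) m)⟩
  · by_cases h : m = 0
    · exact Or.inl h
    · refine Or.inr ?_
      have e0 : η.app (op (Over.mk g)) m = η.app (op (Over.mk g)) 0 :=
        (key (Over.mk g) m).trans (hm.trans (map_zero (η.app (op (Over.mk g))).hom).symm)
      have h1 := hinj.equalizerSieve_mem (X := op (Over.mk g)) m 0 e0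
      rw [GrothendieckTopology.mem_over_iff] at h1
      refine J.superset_covering ?_ h1
      intro T' f hf
      rw [Sieve.overEquiv_iff] at hf
      exact (h hf).elim

end Mod

end Groth.Agent.EtModWLib.LocConstP
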