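import Groth.Agent.EtModWLib.LocConstP.Loci
import Mathlib.AlgebraicGeometry.AffineTransitionLimit

/-!
# Continuity of sheaves constant over an object along limits of affine schemes over it
-/

set_option autoImplicit false

universe u

open CategoryTheory CategoryTheory.Limits AlgebraicGeometry Opposite

namespace Groth.Agent.EtModWLib.LocConstP

set_option backward.isDefEq.respectTransparency.types false

open ProEtLib

variable {X : Scheme.{u}} {I : Type u} [SmallCategory I] [IsCofiltered I] {D : I ⥤ X.ProEt}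

/-- the underlying schemes -/
abbrev sys (D : I ⥤ X.ProEt) : I ⥤ Scheme.{u} := D ⋙ Scheme.ProEt.forget X ⋙ Over.forget X

/-- A cofiltered system of affine objects with its limit. -/
structure IsAffLimit (c : Cone D) : Prop where
  aff : ∀ i, IsAffine (D.obj i).left
  lim : Nonempty (IsLimit ((Scheme.ProEt.forget X ⋙ Over.forget X).mapCone c))

variable {c : Cone D} (hc : IsAffLimit c)

theorem mem_preim {A B : Scheme.{u}} {f : A ⟶ B} {O : B.Opens} {x : A} {b : B} (e : f.base x = b) (h : b ∈ O) :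
    x ∈ f ⁻¹ᵁ O := by subst e; exact h

theorem mem_preim' {A : Scheme.{u}} {O : A.Opens} {a b : A} (e : a = b) (h : a ∈ O) : b ∈ O := e ▸ h

include hc

theorem IsAffLimit.isAffineHom {i j : I} (f : i ⟶ j) : IsAffineHom ((sys D).map f) :=
  @isAffineHom_of_isAffine _ _ _ (hc.aff i) (hc.aff j)

theorem IsAffLimit.compactSpace_pt : CompactSpace c.pt.left := by
  haveI : ∀ {a b : I} (f : a ⟶ b), IsAffineHom ((sys D).map f) := fun f => hc.isAffineHom f
  haveI : ∀ a, CompactSpace ((sys D).obj a) := fun a => by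
    haveI := hc.aff a
    exact inferInstanceAs (CompactSpace (D.obj a).left)
  exact Scheme.compactSpace_of_isLimit (sys D) _ hc.lim.some

/-- opens containing the image of the limit contain a later stage -/
theorem IsAffLimit.exists_stage {j : I} (O : (D.obj j).left.Opens) (h : ∀ y, (c.π.app j).left.base y ∈ O) :
    ∃ (k : I) (f : k ⟶ j), ∀ z, (D.map f).left.base z ∈ O := by
  haveI : ∀ {a b : I} (f : a ⟶ b), IsAffineHom ((sys D).map f) := fun f => hc.isAffineHom f
  haveI : ∀ a, CompactSpace ((sys D).obj a) := fun a => by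
    haveI := hc.aff a
    exact inferInstanceAs (CompactSpace (D.obj a).left)
  obtain ⟨k, f, hf⟩ := exists_map_eq_top (sys D) _ hc.lim.some (i := j) O (eq_top_iff.2 fun y _ => h y)
  exact ⟨k, f, fun z => hf.ge (trivial : z ∈ (⊤ : ((sys D).obj k).Opens))⟩

variable {G : ProEtS.AbP X} {V : X.ProEt} {M : Type (u + 1)} [AddCommGroup M] {φ : M →+ G.obj.obj (op V)}
  (hφ : IsConstOn G φ)

include hφ

/-- sections vanishing on the limit vanish at a stage -/
theorem IsConstOn.exists_map_eq_zero {j : I} (g : D.obj j ⟶ V) (s : G.obj.obj (op (D.obj j)))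
    (hs : G.obj.map (c.π.app j).op s = 0) : ∃ (k : I) (f : k ⟶ j), G.obj.map (D.map f).op s = 0 := by
  obtain ⟨k, f, hf⟩ := hc.exists_stage (locus φ g s 0) fun y => by
    obtain ⟨m, hm⟩ := hφ.exists_mem_locus g s ((c.π.app j).left.base y)
    have hm' := locus_map (c.π.app j) hm
    rw [hs] at hm'
    exact hφ.eq_zero_of_mem hm' ▸ hm
  exact ⟨k, f, (eq_of_forall_mem_locus _ hf).trans (by rw [map_zero, map_zero])⟩

/-- sections on the limit come from a stage -/
theorem IsConstOn.exists_map_eq {j : I} (g : D.obj j ⟶ V) (t : G.obj.obj (op c.pt)) :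
    ∃ (k : I) (f : k ⟶ j) (s : G.obj.obj (op (D.obj k))), G.obj.map (c.π.app k).op s = t := by
  classical
  haveI := hc.compactSpace_pt
  haveI : ∀ {a b : I} (f : a ⟶ b), IsAffineHom ((sys D).map f) := fun f => hc.isAffineHom f
  let L : M → c.pt.left.Opens := fun m => locus φ (c.π.app j ≫ g) t m
  obtain ⟨F, hF⟩ := isCompact_univ.elim_finite_subcover (fun m => (L m : Set c.pt.left)) (fun m => (L m).2)
    fun y _ => Set.mem_iUnion.2 (hφ.exists_mem_locus _ t y)
  let e : Fin F.card ≃ F := F.equivFin.symm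
  choose i W hW hWL using fun l : Fin F.card => exists_preimage_eq (sys D) _ hc.lim.some (L (e l).1)
    ((hφ.isClosed_locus _ t _).isCompact)
  obtain ⟨k, hk⟩ := IsCofiltered.inf_objs_exists (insert j (Finset.univ.image i))
  let a : ∀ l, k ⟶ i l := fun l => (hk (Finset.mem_insert_of_mem (Finset.mem_image_of_mem i (Finset.mem_univ l)))).some
  let a₀ : k ⟶ j := (hk (Finset.mem_insert_self j _)).some
  let W' : Fin F.card → (D.obj k).left.Opens := fun l => (sys D).map (a l) ⁻¹ᵁ W l
  have hW' : ∀ (l) (y : c.pt.left), (c.π.app k).left.base y ∈ W' l ↔ y ∈ L (e l).1 := fun l y => by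
    rw [← hWL l]
    exact iff_of_eq (congrArg (fun q : c.pt ⟶ D.obj (i l) => q.left.base y ∈ W l) (c.w (a l)))
  have key : ∀ l l', ∃ q : Over k, l ≠ l' → ∀ z, (D.map q.hom).left.base z ∉ W' l ⊓ W' l' := fun l l' => by
    by_cases hll : l = l'
    · exact ⟨Over.mk (𝟙 k), fun h => absurd hll h⟩
    · have hkc : IsCompact ((W' l ⊓ W' l' : (D.obj k).left.Opens) : Set (D.obj k).left) := by
        haveI := hc.aff k
        exact IsCompact.inter_of_isOpen
          (QuasiCompact.isCompact_preimage (f := (sys D).map (a l)) _ (W l).2 (hW l))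
          (QuasiCompact.isCompact_preimage (f := (sys D).map (a l')) _ (W l').2 (hW l')) (W' l).2 (W' l').2
      obtain ⟨q, f, hf⟩ := exists_map_preimage_le_map_preimage (sys D) _ hc.lim.some (i := k)
        (U := W' l ⊓ W' l') (V := ⊥) hkc (fun y hy => (hll (e.injective (Subtype.ext
          (hφ.locus_unique ((hW' l y).1 hy.1) ((hW' l' y).1 hy.2))))).elim)
      exact ⟨Over.mk f, fun _ z hz => (show False from hf hz)⟩
  choose q hq using key
  obtain ⟨k₂, b, hb⟩ : ∃ (k₂ : I) (b : k₂ ⟶ k), ∀ l l', l ≠ l' → ∀ z, (D.map b).left.base z ∉ W' l ⊓ W' l' := by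
    let Q : Fin F.card × Fin F.card → Over k := fun p => q p.1 p.2
    haveI : IsCofiltered (Over k) := inferInstance
    obtain ⟨o, ho⟩ := IsCofiltered.inf_objs_exists (Finset.univ.image Q)
    refine ⟨o.left, o.hom, fun l l' hll z hz => ?_⟩
    obtain ⟨f⟩ := ho (Finset.mem_image_of_mem Q (Finset.mem_univ (l, l')))
    refine hq l l' hll ((D.map f.left).left.base z) (Set.mem_of_eq_of_mem ?_ hz)
    exact congrArg (fun r : D.obj o.left ⟶ D.obj k => r.left.base z) ((D.map_comp f.left (q l l').hom).symm.trans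
      (congrArg D.map (Over.w f)))
  obtain ⟨k₃, b', hb'⟩ := hc.exists_stage (j := k₂) (⨆ l, (D.map b).left ⁻¹ᵁ W' l) fun y => by
    obtain ⟨m, hmF, hm⟩ := Set.mem_iUnion₂.1 (hF (Set.mem_univ y))
    refine TopologicalSpace.Opens.mem_iSup.2 ⟨e.symm ⟨m, hmF⟩, ?_⟩
    have : (c.π.app k).left.base y ∈ W' (e.symm ⟨m, hmF⟩) := (hW' _ y).2 (by
      rw [Equiv.apply_symm_apply]
      exact hm)
    exact mem_preim (congrArg (fun r : c.pt ⟶ D.obj k => r.left.base y) (c.w b)) this
  let B : D.obj k₃ ⟶ D.obj k := D.map (b' ≫ b)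
  have hB : ∀ z, B.left.base z = (D.map b).left.base ((D.map b').left.base z) := fun z =>
    congrArg (fun r : D.obj k₃ ⟶ D.obj k => r.left.base z) (D.map_comp b' b)
  let U : ULift.{u} (Fin F.card) → (D.obj k₃).left.Opens := fun l => B.left ⁻¹ᵁ W' l.down
  have hcov : ∀ z, ∃ l, z ∈ U l := fun z => by
    obtain ⟨l, hl⟩ := TopologicalSpace.Opens.mem_iSup.1 (hb' z)
    exact ⟨⟨l⟩, mem_preim (hB z) hl⟩
  let g₃ : D.obj k₃ ⟶ V := B ≫ D.map a₀ ≫ g
  have hsh := Presieve.isSheafFor_iff_generate _ |>.2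
    (((isSheaf_iff_isSheaf_of_type _ _).1
      ((sheafCompose _ (forget AddCommGrpCat.{u + 1})).obj G).2) _ (opens_mem_topology _ U hcov))
  obtain ⟨s, hs, -⟩ := (Presieve.isSheafFor_arrows_iff _ _).1 hsh
    (fun l => G.obj.map (opHom _ (U l) ≫ g₃).op (φ (e l.down).1)) fun l l' Z x x' hxx => by
    show G.obj.map x.op (G.obj.map _ (φ _)) = G.obj.map x'.op (G.obj.map _ (φ _))
    rw [map_map, map_map, ← Category.assoc, ← Category.assoc, hxx]
    by_cases hll : l.down = l'.down
    · rw [hll]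
      simp only [g₃, Category.assoc]
    · rcases isEmpty_or_nonempty Z.left with h | ⟨⟨z⟩⟩
      · exact eq_of_bot G bot_mem _ _
      · refine (hb _ _ hll ((D.map b').left.base ((x ≫ opHom _ (U l)).left.base z)) ⟨?_, ?_⟩).elim
        · exact mem_preim' (hB _) (x.left.base z).2
        · rw [hxx]
          exact mem_preim' (hB _) (x'.left.base z).2
  refine ⟨k₃, b' ≫ b ≫ a₀, s, eq_of_cover G (opens_mem_topology c.pt (fun l : ULift.{u} (Fin F.card) =>
    L (e l.down).1) fun y => ?_) ?_⟩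
  · obtain ⟨m, hmF, hm⟩ := Set.mem_iUnion₂.1 (hF (Set.mem_univ y))
    exact ⟨⟨e.symm ⟨m, hmF⟩⟩, by rw [Equiv.apply_symm_apply]; exact hm⟩
  rintro T _ ⟨_, x, _, ⟨l⟩, rfl⟩
  obtain ⟨y, hy⟩ := exists_lift_opHom (x ≫ opHom c.pt (L (e l.down).1) ≫ c.π.app k₃) (U l) fun z => by
    change B.left.base ((c.π.app k₃).left.base _) ∈ W' l.down
    exact Set.mem_of_eq_of_mem (congrArg (fun r : c.pt ⟶ D.obj k => r.left.base _) (c.w (b' ≫ b)))
      ((hW' _ _).2 (x.left.base z).2)
  have hsl : G.obj.map (opHom _ (U l)).op s = G.obj.map (opHom _ (U l) ≫ g₃).op (φ (e l.down).1) := hs l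
  rw [map_map, Category.assoc, ← hy, ← map_map G (opHom _ (U l)) y s, hsl, map_map, ← Category.assoc, hy]
  refine Eq.trans ?_ (map_map G (opHom c.pt (L (e l.down).1)) x t)
  rw [eq_of_forall_mem_locus (φ := φ) (g := c.π.app j ≫ g) (s := t) (m := (e l.down).1)
    (opHom c.pt (L (e l.down).1)) fun z => z.2, map_map]
  refine congrArg (fun r : T ⟶ V => G.obj.map r.op (φ (e l.down).1)) ?_
  simp only [Category.assoc]
  refine congrArg (fun r : c.pt ⟶ V => x ≫ opHom c.pt (L (e l.down).1) ≫ r) ?_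
  change c.π.app k₃ ≫ D.map (b' ≫ b) ≫ D.map a₀ ≫ g = c.π.app j ≫ g
  rw [← Category.assoc (D.map _), ← D.map_comp, ← Category.assoc, c.w]

end Groth.Agent.EtModWLib.LocConstP
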