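import Groth.Agent.EtModWLib.LocConstP.Generic
import Groth.Agent.ProEtLib.EpsUnit
import Groth.Agent.EpsLim13.Van

/-!
# Sections of pro-étale sheaves constant over an object are locally constant for the Zariski topology
-/

set_option autoImplicit false

universe u

open CategoryTheory CategoryTheory.Limits AlgebraicGeometry Opposite

namespace Groth.Agent.EtModWLib.LocConstP

set_option backward.isDefEq.respectTransparency.types false

open ProEtLib

variable {X : Scheme.{u}} {G : ProEtS.AbP X}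

local notation "K" => Scheme.ProEt.topology X

theorem not_bot_mem {T : X.ProEt} (t : T.left) : (⊥ : Sieve T) ∉ Scheme.ProEt.topology X T := fun h => by
  obtain ⟨_, f, _, hf, -⟩ := exists_hit h t
  exact hf

theorem bot_mem {T : X.ProEt} [IsEmpty T.left] : (⊥ : Sieve T) ∈ Scheme.ProEt.topology X T :=
  Scheme.ProEt.bot_mem_topology T

/-- factorisation through an open -/
theorem exists_lift_opHom {T T' : X.ProEt} (f : T' ⟶ T) (O : T.left.Opens) (h : ∀ z, f.left.base z ∈ O) :
    ∃ l : T' ⟶ opObj T O, l ≫ opHom T O = f := by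
  have hr : Set.range f.left.base ⊆ Set.range O.ι.base := by
    rintro _ ⟨z, rfl⟩
    rw [Scheme.Opens.range_ι]
    exact h z
  haveI hO : IsOpenImmersion (show (O : Scheme.{u}) ⟶ T.left from O.ι) := inferInstance
  refine ⟨MorphismProperty.Over.homMk (@IsOpenImmersion.lift _ _ _ (show (O : Scheme.{u}) ⟶ T.left from O.ι) f.left hO hr) ?_,
    MorphismProperty.Over.Hom.ext (IsOpenImmersion.lift_fac O.ι f.left hr)⟩
  change IsOpenImmersion.lift O.ι f.left hr ≫ O.ι ≫ T.hom = T'.hom
  rw [← Category.assoc, IsOpenImmersion.lift_fac]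
  exact MorphismProperty.Over.w f

variable {V : X.ProEt} {M : Type (u + 1)} [AddCommGroup M] (φ : M →+ G.obj.obj (op V))

/-- Where a section agrees with the given constant value. -/
def locus {T : X.ProEt} (g : T ⟶ V) (s : G.obj.obj (op T)) (m : M) : T.left.Opens :=
  sSup {O | G.obj.map (opHom T O).op s = G.obj.map (opHom T O ≫ g).op (φ m)}

variable {φ}

theorem mem_locus_of {T : X.ProEt} {g : T ⟶ V} {s : G.obj.obj (op T)} {m : M} {O : T.left.Opens} {t : T.left}
    (ht : t ∈ O) (e : G.obj.map (opHom T O).op s = G.obj.map (opHom T O ≫ g).op (φ m)) : t ∈ locus φ g s m :=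
  TopologicalSpace.Opens.mem_sSup.2 ⟨O, e, ht⟩

theorem eq_of_forall_mem_locus {T : X.ProEt} {g : T ⟶ V} {s : G.obj.obj (op T)} {m : M} {T' : X.ProEt}
    (f : T' ⟶ T) (h : ∀ z, f.left.base z ∈ locus φ g s m) :
    G.obj.map f.op s = G.obj.map (f ≫ g).op (φ m) := by
  choose O hO hzO using fun z => TopologicalSpace.Opens.mem_sSup.1 (h z)
  refine eq_of_cover G (opens_mem_topology T' (fun z => f.left ⁻¹ᵁ O z) fun z => ⟨z, hzO z⟩) ?_
  rintro T'' e ⟨_, a, _, ⟨z⟩, rfl⟩
  obtain ⟨l, hl⟩ := exists_lift_opHom (opHom T' (f.left ⁻¹ᵁ O z) ≫ f) (O z) fun w => w.2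
  have h1 := congrArg (fun q => G.obj.map l.op q) (hO z)
  rw [map_map, map_map, ← Category.assoc, hl] at h1
  rw [map_map, map_map, Category.assoc, ← map_map G (opHom T' (f.left ⁻¹ᵁ O z) ≫ f) a s, h1, map_map]
  simp only [Category.assoc]

theorem mem_locus_iff {T : X.ProEt} {g : T ⟶ V} {s : G.obj.obj (op T)} {m : M} {t : T.left} :
    t ∈ locus φ g s m ↔ ∃ O : T.left.Opens, t ∈ O ∧ G.obj.map (opHom T O).op s = G.obj.map (opHom T O ≫ g).op (φ m) :=
  ⟨fun h => ⟨_, h, eq_of_forall_mem_locus _ fun z => z.2⟩, fun ⟨_, h1, h2⟩ => mem_locus_of h1 h2⟩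

theorem locus_map {T : X.ProEt} {g : T ⟶ V} {s : G.obj.obj (op T)} {m : M} {T' : X.ProEt} (f : T' ⟶ T)
    {z : T'.left} (h : f.left.base z ∈ locus φ g s m) : z ∈ locus φ (f ≫ g) (G.obj.map f.op s) m := by
  refine mem_locus_of (O := f.left ⁻¹ᵁ locus φ g s m) h ?_
  rw [map_map, ← Category.assoc]
  exact eq_of_forall_mem_locus (opHom T' (f.left ⁻¹ᵁ locus φ g s m) ≫ f) fun w : (f.left ⁻¹ᵁ locus φ g s m : T'.left.Opens) => w.2

theorem locus_add {T : X.ProEt} {g : T ⟶ V} {s s' : G.obj.obj (op T)} {m m' : M} {t : T.left}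
    (h : t ∈ locus φ g s m) (h' : t ∈ locus φ g s' m') : t ∈ locus φ g (s + s') (m + m') := by
  refine mem_locus_of (O := locus φ g s m ⊓ locus φ g s' m') ⟨h, h'⟩ ?_
  let W : T.left.Opens := locus φ g s m ⊓ locus φ g s' m'
  have e1 := eq_of_forall_mem_locus (φ := φ) (g := g) (s := s) (m := m) (opHom T W) fun w : W => w.2.1
  have e2 := eq_of_forall_mem_locus (φ := φ) (g := g) (s := s') (m := m') (opHom T W) fun w : W => w.2.2
  rw [map_add, map_add, map_add, e1, e2]

theorem mem_locus_self {T : X.ProEt} (g : T ⟶ V) (m : M) (t : T.left) :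
    t ∈ locus φ g (G.obj.map g.op (φ m)) m :=
  mem_locus_of (O := ⊤) trivial (map_map G g _ (φ m))

theorem IsConstOn.locus_unique (hφ : IsConstOn G φ) {T : X.ProEt} {g : T ⟶ V} {s : G.obj.obj (op T)} {m m' : M}
    {t : T.left} (h : t ∈ locus φ g s m) (h' : t ∈ locus φ g s m') : m = m' := by
  let O := locus φ g s m ⊓ locus φ g s m'
  refine hφ.unique (opHom T O ≫ g) (not_bot_mem (T := opObj T O) ⟨t, h, h'⟩) ?_
  rw [← eq_of_forall_mem_locus (φ := φ) (g := g) (s := s) (m := m) (opHom T O) fun w => w.2.1,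
    ← eq_of_forall_mem_locus (φ := φ) (g := g) (s := s) (m := m') (opHom T O) fun w => w.2.2]

theorem IsConstOn.eq_zero_of_mem (hφ : IsConstOn G φ) {T : X.ProEt} {g : T ⟶ V} {m : M} {t : T.left}
    (h : t ∈ locus φ g 0 m) : m = 0 :=
  hφ.locus_unique h (mem_locus_of (O := ⊤) trivial (by simp only [map_zero]))

theorem IsConstOn.exists_mem_locus_of_affine (hφ : IsConstOn G φ) {T : X.ProEt} [IsAffine T.left] (g : T ⟶ V)
    (s : G.obj.obj (op T)) (v : T.left) : ∃ m, v ∈ locus φ g s m := by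
  obtain ⟨R, hR, hR'⟩ := hφ.surj g s
  obtain ⟨κ, _, P, p, hp, hP, hcov, hgen⟩ := exists_finite_compact_cover hR
  choose m hm using fun k => hR' (p k) (hp k)
  obtain ⟨k, a, ha⟩ := hcov v
  let B : Set T.left := ⋃ l : {l : κ // m l ≠ m k}, closure ((p l.1).left.base '' Set.univ)
  have hB : IsClosed B := isClosed_iUnion_of_finite fun l => isClosed_closure
  have hv : v ∉ B := by
    rintro h
    obtain ⟨⟨l, hl⟩, hvl⟩ := Set.mem_iUnion.1 h
    haveI := hP l
    refine notMem_closure_image (p l).left Set.univ isClosed_univ v (fun b _ hb => hl ?_) hvl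
    haveI : WeaklyEtale (p k).left := weaklyEtale_left (p k)
    obtain ⟨a', -, ha'⟩ := (Flat.generalizingMap (p k).left) (a := a) (b := (p l).left.base b) (by
      change (p l).left.base b ⤳ (p k).left.base a
      rw [ha]
      exact hb)
    obtain ⟨Q, r, r', z, hr, -, -⟩ := EpsLim13.exists_point (p k) (p l) a' b ha'
    refine (hφ.unique (r ≫ p k ≫ g) (not_bot_mem z) ?_).symm
    have h1 := congrArg (fun q => G.obj.map r.op q) (hm k)
    have h2 := congrArg (fun q => G.obj.map r'.op q) (hm l)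
    rw [map_map, map_map] at h1 h2
    rw [hr] at h1
    refine h1.symm.trans (h2.trans ?_)
    rw [← Category.assoc r, hr, Category.assoc]
  let O : T.left.Opens := ⟨Bᶜ, hB.isOpen_compl⟩
  refine ⟨m k, mem_locus_of (O := O) hv (eq_of_cover G
    ((Scheme.ProEt.topology X).pullback_stable (opHom T O) hgen) ?_)⟩
  rintro T' f ⟨_, q, _, ⟨l⟩, hq⟩
  rw [map_map, map_map, ← Category.assoc, ← hq]
  rcases isEmpty_or_nonempty T'.left with h | ⟨⟨w⟩⟩
  · exact eq_of_bot G bot_mem _ _
  · have hlk : m l = m k := by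
      by_contra hne
      refine (f.left.base w).2 (Set.mem_iUnion.2 ⟨⟨l, hne⟩, subset_closure ⟨q.left.base w, trivial, ?_⟩⟩)
      exact congrArg (fun e : T' ⟶ T => e.left.base w) hq
    rw [← hlk, ← map_map G (p l) q s, hm l, map_map, Category.assoc]

/-- sections are Zariski locally constant -/
theorem IsConstOn.exists_mem_locus (hφ : IsConstOn G φ) {T : X.ProEt} (g : T ⟶ V)
    (s : G.obj.obj (op T)) (v : T.left) : ∃ m, v ∈ locus φ g s m := by
  obtain ⟨O, hO, hv, -⟩ := exists_isAffineOpen_mem_and_subset (U := (⊤ : T.left.Opens)) (x := v) trivial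
  haveI : IsAffine (opObj T O).left := hO
  obtain ⟨m, hm⟩ := hφ.exists_mem_locus_of_affine (opHom T O ≫ g) (G.obj.map (opHom T O).op s) ⟨v, hv⟩
  obtain ⟨O', hvO', e⟩ := mem_locus_iff.1 hm
  let W : T.left.Opens := O.ι ''ᵁ O'
  refine ⟨m, mem_locus_of (O := W) ⟨⟨v, hv⟩, hvO', rfl⟩ ?_⟩
  obtain ⟨l, hl⟩ := exists_lift_opHom (opHom T W) O fun z => by
    obtain ⟨y, -, hy⟩ := z.2
    exact Set.mem_of_eq_of_mem hy.symm y.2
  obtain ⟨l', hl'⟩ := exists_lift_opHom l O' fun z => by
    obtain ⟨y, hy, hy'⟩ := z.2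
    have : (l.left.base z : O) = y := by
      refine Subtype.ext ((congrArg (fun f : opObj T W ⟶ T => f.left.base z) hl).trans hy'.symm)
    exact this ▸ hy
  have h1 := congrArg (fun q => G.obj.map l'.op q) e
  rw [map_map, map_map, map_map, ← Category.assoc l', hl', ← Category.assoc, hl] at h1
  exact h1

theorem IsConstOn.isClosed_locus (hφ : IsConstOn G φ) {T : X.ProEt} (g : T ⟶ V) (s : G.obj.obj (op T)) (m : M) :
    IsClosed (locus φ g s m : Set T.left) := by
  rw [← isOpen_compl_iff, isOpen_iff_forall_mem_open]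
  intro v hv
  obtain ⟨m', hm'⟩ := hφ.exists_mem_locus g s v
  exact ⟨_, fun w hw hw' => hv (hφ.locus_unique hw hw' ▸ hm'), (locus φ g s m').2, hm'⟩

end Groth.Agent.EtModWLib.LocConstP
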