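import Groth.Agent.EtModWLib.LocConstP.Chart
import Groth.Agent.EtModWLib.LocConstP.EtaleSide

/-!
# Finitely presented locally constant sheaves on the étale and on the pro-étale site
-/

set_option autoImplicit false

universe u

open CategoryTheory CategoryTheory.Limits AlgebraicGeometry Opposite MorphismProperty

namespace Groth.Agent.EtModWLib.LocConstP

set_option backward.isDefEq.respectTransparency.types false

open ProEtLib SitePullUnit

variable {X : Scheme.{u}} [ProEtS.EpsCont X] {Λ : Type (u + 1)} [CommRing Λ]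

local notation "K" => Scheme.ProEt.topology X

theorem isFPLocConst_of_iso {F G : EtModW.Mod Λ X} (e : F ≅ G) (h : EtModW.IsFPLocConst Λ F) :
    EtModW.IsFPLocConst Λ G := by
  obtain ⟨ι, U, hU, hM⟩ := h
  refine ⟨ι, U, hU, fun i => ?_⟩
  obtain ⟨M, i1, i2, i3, ⟨k⟩⟩ := hM i
  exact ⟨M, i1, i2, i3, ⟨((X.smallEtaleTopology.overPullback _ (U i)).mapIso e).symm ≪≫ k⟩⟩

theorem coversP_of_covers {ι : Type u} (U : ι → X.Etale) (hU : ∀ x : X, ∃ i, x ∈ Set.range (U i).hom.base) :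
    EtModW.CoversP fun i => (ProEtS.eps X).obj (U i) :=
  mem_topology_of_etale (fun i => (ProEtS.eps X).obj (U i))
    (fun i => (MorphismProperty.Over.homMk ((ProEtS.eps X).obj (U i)).hom :
      (ProEtS.eps X).obj (U i) ⟶ ProEtS.topP X))
    (fun i => (U i).prop) hU (fun i => Sieve.ofArrows_mk _ _ i)

/-- the inverse image of a family trivializing over an étale object -/
theorem exists_isConstOnM_eps {F : EtModW.Mod Λ X} {U : X.Etale} {M : ModuleCat.{u + 1} Λ}
    {φ : M ⟶ F.obj.obj (op U)} (h : IsConstOnM F φ) :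
    ∃ ψ : M ⟶ ((EtModW.epsPullMod Λ X).obj F).obj.obj (op ((ProEtS.eps X).obj U)),
      IsConstOnM ((EtModW.epsPullMod Λ X).obj F) ψ := by
  let P := ProEtLib.pullC X
  let e : (abPro Λ X).obj ((EtModW.epsPullMod Λ X).obj F) ≅ P.obj ((abEt Λ X).obj F) :=
    (abEpsIso Λ X).app F ≪≫ (epsPullIso X).app ((abEt Λ X).obj F)
  have h1 : IsConstOn ((abPro Λ X).obj ((EtModW.epsPullMod Λ X).obj F)) _ :=
    (IsConstOn.pullC (F := (abEt Λ X).obj F) h).of_map e.symm
  let θ : M →+ ((abPro Λ X).obj ((EtModW.epsPullMod Λ X).obj F)).obj.obj (op ((ProEtS.eps X).obj U)) :=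
    (e.inv.hom.app (op ((ProEtS.eps X).obj U))).hom.comp
      (pulledFam ((abEt Λ X).obj F) φ.hom.toAddMonoidHom)
  have hlin : ∀ (r : Λ) (m : M),
      (show ((EtModW.epsPullMod Λ X).obj F).obj.obj (op ((ProEtS.eps X).obj U)) from θ (r • m)) =
        r • (show ((EtModW.epsPullMod Λ X).obj F).obj.obj (op ((ProEtS.eps X).obj U)) from θ m) := by
    intro r m
    let H := (abEt Λ X).map (r • 𝟙 F)
    have s1 : pulledFam ((abEt Λ X).obj F) φ.hom.toAddMonoidHom (r • m) =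
        (P.map H).hom.app (op ((ProEtS.eps X).obj U))
          (pulledFam ((abEt Λ X).obj F) φ.hom.toAddMonoidHom m) := by
      refine Eq.trans ?_ (map_sGerm_app H (𝟙 _) _).symm
      exact congrArg (fun q => sGerm (ProEtS.eps X) K ((abEt Λ X).obj F) (𝟙 _) q) (map_smul φ.hom r m)
    have s2 : P.map H ≫ e.inv = e.inv ≫ (abPro Λ X).map ((EtModW.epsPullMod Λ X).map (r • 𝟙 F)) := by
      change P.map H ≫ ((epsPullIso X).inv.app ((abEt Λ X).obj F) ≫ (abEpsIso Λ X).inv.app F) =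
        ((epsPullIso X).inv.app ((abEt Λ X).obj F) ≫ (abEpsIso Λ X).inv.app F) ≫
          (abPro Λ X).map ((EtModW.epsPullMod Λ X).map (r • 𝟙 F))
      rw [← Category.assoc, (epsPullIso X).inv.naturality, Category.assoc, Category.assoc]
      exact congrArg ((epsPullIso X).inv.app ((abEt Λ X).obj F) ≫ ·) ((abEpsIso Λ X).inv.naturality (r • 𝟙 F))
    have s3 : (EtModW.epsPullMod Λ X).map (r • 𝟙 F) = r • 𝟙 ((EtModW.epsPullMod Λ X).obj F) := by
      rw [Functor.map_smul, CategoryTheory.Functor.map_id]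
    change e.inv.hom.app (op ((ProEtS.eps X).obj U))
      (pulledFam ((abEt Λ X).obj F) φ.hom.toAddMonoidHom (r • m)) = _
    rw [s1]
    refine (congrArg (fun q : P.obj ((abEt Λ X).obj F) ⟶ (abPro Λ X).obj ((EtModW.epsPullMod Λ X).obj F) =>
      q.hom.app (op ((ProEtS.eps X).obj U)) (pulledFam ((abEt Λ X).obj F) φ.hom.toAddMonoidHom m)) s2).trans ?_
    rw [s3]
    rfl
  exact ⟨ModuleCat.ofHom { toFun := θ, map_add' := θ.map_add, map_smul' := hlin }, h1⟩

theorem isFPLocConstP_epsPullMod (F : EtModW.Mod Λ X) (hF : EtModW.IsFPLocConst Λ F) :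
    EtModW.IsFPLocConstP Λ ((EtModW.epsPullMod Λ X).obj F) := by
  obtain ⟨ι, U, hU, hM⟩ := hF
  refine ⟨ι, fun i => (ProEtS.eps X).obj (U i), coversP_of_covers U (fun x => ?_), fun i => ?_⟩
  · obtain ⟨i, p, hp⟩ := hU x
    exact ⟨i, p, hp⟩
  · obtain ⟨M, _, _, hfp, ⟨e⟩⟩ := hM i
    obtain ⟨φ, hφ⟩ := exists_isConstOnM e
    obtain ⟨ψ, hψ⟩ := exists_isConstOnM_eps hφ
    exact ⟨M, inferInstance, inferInstance, hfp, hψ.nonempty_iso⟩

theorem exists_isFPLocConst (GM : EtModW.ModP Λ X) (hG : EtModW.IsFPLocConstP Λ GM) :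
    ∃ F : EtModW.Mod Λ X, EtModW.IsFPLocConst Λ F ∧ Nonempty ((EtModW.epsPullMod Λ X).obj F ≅ GM) := by
  choose U p hp M hM ψ hψ using exists_etale_chart hG
  let R := (ProEtS.eps X).sheafPushforwardContinuous (ModuleCat.{u + 1} Λ) X.smallEtaleTopology
    (Scheme.ProEt.topology X)
  let A : ProEtS.AbP X := (abPro Λ X).obj GM
  have hφ : ∀ x, IsConstOn (G := (ProEtS.epsPush X).obj A) (V := U x) (ψ x).hom.toAddMonoidHom :=
    fun x => IsConstOn.epsPush (hψ x)
  have hE : EtModW.IsFPLocConst Λ (R.obj GM) :=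
    ⟨X, U, fun x => ⟨x, p x, hp x⟩, fun x => ⟨M x, inferInstance, inferInstance, hM x,
      IsConstOnM.nonempty_iso (G := R.obj GM) (V := U x) (φ := ψ x) (hφ x)⟩⟩
  haveI : IsIso ((adjC (X := X)).counit.app A) := by
    refine isIso_of_charts _ fun T => ?_
    let t : T ⟶ ProEtS.topP X := MorphismProperty.Over.homMk T.hom
    refine ⟨_, (Scheme.ProEt.topology X).pullback_stable t
      (coversP_of_covers U fun x => ⟨x, p x, hp x⟩), ?_⟩
    rintro T' f ⟨_, a, _, ⟨x⟩, -⟩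
    exact ⟨(ProEtS.eps X).obj (U x), a, M x, inferInstance, _, _, IsConstOn.pullC (hφ x), hψ x,
      fun m => counit_pulledFam A _ m⟩
  obtain ⟨E', ⟨e⟩⟩ := essImage_epsPullMod_of_ab (A := GM)
    ⟨(ProEtS.epsPush X).obj A, ⟨(epsPullIso X).app _ ≪≫ asIso ((adjC (X := X)).counit.app A)⟩⟩
  haveI : IsIso ((epsAdjMod Λ X).unit.app E') := inferInstance
  exact ⟨E', isFPLocConst_of_iso ((asIso ((epsAdjMod Λ X).unit.app E')) ≪≫ R.mapIso e).symm hE, ⟨e⟩⟩

end Groth.Agent.EtModWLib.LocConstP
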